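import Mathlib

/-!
# Universal property of power series rings and the structure theorem (helper90)

* `exists_eval`: if `A` is an `I`-adically complete `B`-algebra and `x i ∈ I` (`σ` finite) there is
  a `B`-algebra map `B[[X]] → A` extending `MvPolynomial.aeval x` and sending power series of
  order `≥ n` into `I ^ n`.
* `surjective_of_complete`: "complete Nakayama" for ring maps.
* `injective_of_quasiRegular`, `exists_algEquiv`: if moreover `x` is quasi-regular, generates `I`
  and `B → A/I` is bijective then `B[[X]] ≃ₐ[B] A`.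
* `isAdicComplete_pow`, `le_order_of_mem_pow`, `coeff_eq_zero_of_mem_pow`, `exists_trunc`: utilities.
* `quasiRegular_unit`, `exists_algEquiv_powerSeries`: one-variable case for a non-zero-divisor `x`.
-/

set_option autoImplicit false
set_option linter.style.haveILetI false

namespace Groth.Agent.Lib.Helper90.PSUniv

open MvPowerSeries


section eval
variable {B : Type*} [CommRing B] {A : Type*} [CommRing A] [Algebra B A] (I : Ideal A)
  [IsAdicComplete I A] {σ : Type*} [Finite σ]

theorem exists_eval (x : σ → A) (hx : ∀ i, x i ∈ I) :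
    ∃ φ : MvPowerSeries σ B →ₐ[B] A,
      (∀ p : MvPolynomial σ B, φ (p : MvPowerSeries σ B) = MvPolynomial.aeval x p) ∧
      (∀ (n : ℕ) (f : MvPowerSeries σ B), (∀ d : σ →₀ ℕ, d.degree < n → coeff d f = 0) →
        φ f ∈ I ^ n) := by
  classical
  letI : WithIdeal A := ⟨I⟩
  have hadic : IsAdic (WithIdeal.i : Ideal A) := rfl
  obtain ⟨hc, ht2⟩ := (IsAdic.isAdicComplete_iff hadic).mp (inferInstanceAs (IsAdicComplete I A))
  letI : UniformSpace B := ⊥
  haveI : DiscreteTopology B := ⟨rfl⟩
  haveI : ContinuousSMul B A := ⟨continuous_prod_of_discrete_left.mpr fun b => by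
    simp only [Algebra.smul_def]
    exact continuous_const.mul continuous_id⟩
  have hev : MvPowerSeries.HasEval x :=
    { hpow := fun i => WithIdeal.isTopologicallyNilpotent_of_mem (hx i)
      tendsto_zero := by
        haveI := Fintype.ofFinite σ
        rw [Filter.cofinite_eq_bot]
        exact Filter.tendsto_bot }
  refine ⟨MvPowerSeries.aeval hev, fun p => MvPowerSeries.aeval_coe hev p, ?_⟩
  intro n f hf
  have hs := MvPowerSeries.hasSum_aeval hev f
  have hopen : IsOpen ((I ^ n : Ideal A) : Set A) := by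
    have := (hadic.hasBasis_nhds_zero).mem_of_mem (i := n) trivial
    exact (I ^ n).toAddSubgroup.isOpen_of_mem_nhds this
  have hclosed : IsClosed ((I ^ n : Ideal A) : Set A) :=
    AddSubgroup.isClosed_of_isOpen (I ^ n).toAddSubgroup hopen
  refine hclosed.mem_of_tendsto hs (Filter.Eventually.of_forall fun s => ?_)
  refine Ideal.sum_mem _ fun d _ => ?_
  by_cases hd : d.degree < n
  · rw [hf d hd, zero_smul]
    exact Ideal.zero_mem _
  · rw [not_lt] at hd
    apply Submodule.smul_of_tower_mem
    refine Ideal.pow_le_pow_right hd ?_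
    rw [Finsupp.degree_apply, Finsupp.prod, ← Finset.prod_pow_eq_pow_sum]
    exact Ideal.prod_mem_prod fun i _ => Ideal.pow_mem_pow (hx i) _

end eval


section surj
variable {P : Type*} [CommRing P] {A : Type*} [CommRing A]

/-- one approximation step -/
theorem exists_approx (φ : P →+* A) (J : Ideal P) (I : Ideal A)
    (h2 : ∀ a : A, ∃ f : P, a - φ f ∈ I) (h3 : I ≤ J.map φ) (hJI : J.map φ ≤ I) (n : ℕ) (a : A)
    (ha : a ∈ I ^ n) : ∃ f ∈ J ^ n, a - φ f ∈ I ^ (n + 1) := by
  have hI : I = J.map φ := le_antisymm h3 hJI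
  have ha' : a ∈ (J ^ n).map φ := by rw [Ideal.map_pow, ← hI]; exact ha
  have hle : (J ^ n).map φ ≤ I ^ n := by rw [Ideal.map_pow, ← hI]
  unfold Ideal.map at ha'
  clear ha
  induction ha' using Submodule.span_induction with
  | mem y hy =>
    obtain ⟨j, hj, rfl⟩ := hy
    exact ⟨j, hj, by simp⟩
  | zero => exact ⟨0, Ideal.zero_mem _, by simp⟩
  | add y z _ _ hy hz =>
    obtain ⟨f, hf, hf'⟩ := hy
    obtain ⟨g, hg, hg'⟩ := hz
    refine ⟨f + g, Ideal.add_mem _ hf hg, ?_⟩
    have : y + z - φ (f + g) = (y - φ f) + (z - φ g) := by rw [map_add]; ring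
    rw [this]
    exact Ideal.add_mem _ hf' hg'
  | smul r y hy ih =>
    obtain ⟨f, hf, hf'⟩ := ih
    obtain ⟨g, hg⟩ := h2 r
    refine ⟨g * f, Ideal.mul_mem_left _ _ hf, ?_⟩
    have hyI : y ∈ I ^ n := hle hy
    have : r • y - φ (g * f) = φ g * (y - φ f) + (r - φ g) * y := by
      rw [map_mul, smul_eq_mul]; ring
    rw [this]
    refine Ideal.add_mem _ (Ideal.mul_mem_left _ _ hf') ?_
    rw [pow_succ']
    exact Ideal.mul_mem_mul hg hyI

theorem surjective_of_complete (φ : P →+* A) (J : Ideal P) (I : Ideal A) [IsPrecomplete J P]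
    [IsHausdorff I A]
    (h2 : ∀ a : A, ∃ f : P, a - φ f ∈ I) (h3 : I ≤ J.map φ) (hJI : J.map φ ≤ I) :
    Function.Surjective φ := by
  classical
  intro a
  have hmapn : ∀ n : ℕ, ∀ f ∈ J ^ n, φ f ∈ I ^ n := by
    intro n f hf
    have : φ f ∈ (J ^ n).map φ := Ideal.mem_map_of_mem φ hf
    rw [Ideal.map_pow] at this
    exact Ideal.pow_right_mono hJI n this
  -- step function
  let step : ℕ → A → P := fun n r =>
    if h : r ∈ I ^ n then Classical.choose (exists_approx φ J I h2 h3 hJI n r h) else 0
  have hstep : ∀ n r, r ∈ I ^ n → step n r ∈ J ^ n ∧ r - φ (step n r) ∈ I ^ (n + 1) := by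
    intro n r h
    simp only [step, dif_pos h]
    exact Classical.choose_spec (exists_approx φ J I h2 h3 hJI n r h)
  -- the sequence of pairs (partial sum, remainder)
  let seq : ℕ → P × A := fun n => Nat.rec (0, a) (fun n p => (p.1 + step n p.2, p.2 - φ (step n p.2))) n
  have hseq0 : seq 0 = (0, a) := rfl
  have hseqS : ∀ n, seq (n + 1) = ((seq n).1 + step n (seq n).2, (seq n).2 - φ (step n (seq n).2)) :=
    fun n => rfl
  have hrem : ∀ n, (seq n).2 ∈ I ^ n ∧ (seq n).2 = a - φ (seq n).1 := by
    intro n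
    induction n with
    | zero => simp [hseq0]
    | succ n ih =>
      rw [hseqS]
      refine ⟨(hstep n _ ih.1).2, ?_⟩
      simp only
      rw [ih.2, map_add]; ring
  have hdiff : ∀ n, (seq (n + 1)).1 - (seq n).1 ∈ J ^ n := by
    intro n
    rw [hseqS]
    simp only [add_sub_cancel_left]
    exact (hstep n _ (hrem n).1).1
  have hcauchy : ∀ m n, m ≤ n → (seq n).1 - (seq m).1 ∈ J ^ m := by
    intro m n hmn
    induction n, hmn using Nat.le_induction with
    | base => simp
    | succ n hmn ih =>
      have : (seq (n + 1)).1 - (seq m).1 = ((seq (n + 1)).1 - (seq n).1) + ((seq n).1 - (seq m).1) := by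
        ring
      rw [this]
      exact Ideal.add_mem _ (Ideal.pow_le_pow_right hmn (hdiff n)) ih
  obtain ⟨L, hL⟩ := IsPrecomplete.prec' (I := J) (fun n => (seq n).1) (by
    intro m n hmn
    rw [SModEq.sub_mem]
    have := hcauchy m n hmn
    rw [← neg_sub]
    simpa using (J ^ m).neg_mem this)
  have hL' : ∀ n, L - (seq n).1 ∈ J ^ n := by
    intro n
    have := hL n
    rw [SModEq.sub_mem] at this
    rw [← neg_sub]
    refine (J ^ n).neg_mem ?_
    simpa using this
  refine ⟨L, ?_⟩
  rw [← sub_eq_zero]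
  refine IsHausdorff.haus' (I := I) _ fun n => ?_
  rw [SModEq.zero]
  have e : φ L - a = φ (L - (seq n).1) - (seq n).2 := by
    rw [(hrem n).2, map_sub]; ring
  rw [e]
  have h1 := hmapn n _ (hL' n)
  have h2' := (hrem n).1
  simpa using (I ^ n).sub_mem h1 h2'

end surj



section inj
variable {B : Type*} [CommRing B] {A : Type*} [CommRing A] [Algebra B A] (I : Ideal A)
  {σ : Type*} [Finite σ]

theorem injective_of_quasiRegular [IsHausdorff I A] (x : σ → A)
    (hq : ∀ (n : ℕ) (F : MvPolynomial σ A), F.IsHomogeneous n →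
      MvPolynomial.eval x F ∈ I ^ (n + 1) → ∀ d, F.coeff d ∈ I)
    (hinj : ∀ b : B, algebraMap B A b ∈ I → b = 0)
    (φ : MvPowerSeries σ B →ₐ[B] A)
    (hφ1 : ∀ p : MvPolynomial σ B, φ (p : MvPowerSeries σ B) = MvPolynomial.aeval x p)
    (hφ2 : ∀ (n : ℕ) (f : MvPowerSeries σ B),
      (∀ d : σ →₀ ℕ, d.degree < n → coeff d f = 0) → φ f ∈ I ^ n) :
    Function.Injective φ := by
  classical
  haveI := Fintype.ofFinite σ
  rw [injective_iff_map_eq_zero]
  intro f hf
  by_contra hne
  have hex : ∃ n : ℕ, ∃ d : σ →₀ ℕ, d.degree = n ∧ coeff d f ≠ 0 := by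
    by_contra h
    apply hne
    ext d
    by_contra hd
    exact h ⟨d.degree, d, rfl, hd⟩
  set n := Nat.find hex with hn
  obtain ⟨d₀, hd₀, hd₀'⟩ := Nat.find_spec hex
  have hmin : ∀ d : σ →₀ ℕ, d.degree < n → coeff d f = 0 := by
    intro d hd
    by_contra h
    exact Nat.find_min hex hd ⟨d, rfl, h⟩
  let S : Finset (σ →₀ ℕ) := (Finset.univ : Finset σ).finsuppAntidiag n
  have hS : ∀ d : σ →₀ ℕ, d ∈ S ↔ d.degree = n := by
    intro d
    simp only [S, Finset.mem_finsuppAntidiag, Finset.subset_univ, and_true]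
    rw [Finsupp.degree_eq_sum]
  let G : MvPolynomial σ B := ∑ d ∈ S, MvPolynomial.monomial d (coeff d f)
  have hGhom : G.IsHomogeneous n :=
    MvPolynomial.IsHomogeneous.sum _ _ _ fun d hd =>
      MvPolynomial.isHomogeneous_monomial _ ((hS d).mp hd)
  have hGcoeff : ∀ d, MvPolynomial.coeff d G = if d ∈ S then coeff d f else 0 := by
    intro d
    simp only [G, MvPolynomial.coeff_sum, MvPolynomial.coeff_monomial]
    rw [Finset.sum_ite_eq' S d]
  have hrest : ∀ d : σ →₀ ℕ, d.degree < n + 1 →
      coeff d (f - (G : MvPowerSeries σ B)) = 0 := by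
    intro d hd
    rw [map_sub, MvPolynomial.coeff_coe, hGcoeff]
    by_cases h : d.degree = n
    · rw [if_pos ((hS d).mpr h), sub_self]
    · rw [if_neg (fun h' => h ((hS d).mp h')), sub_zero]
      exact hmin d (by omega)
  have h1 := hφ2 (n + 1) _ hrest
  rw [map_sub, hf, zero_sub, neg_mem_iff, hφ1] at h1
  have h2 : MvPolynomial.eval x (MvPolynomial.map (algebraMap B A) G) = MvPolynomial.aeval x G := by
    rw [MvPolynomial.eval_map, MvPolynomial.aeval_def]
  have h3 := hq n (MvPolynomial.map (algebraMap B A) G) (hGhom.map _) (by rw [h2]; exact h1) d₀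
  rw [MvPolynomial.coeff_map, hGcoeff, if_pos ((hS d₀).mpr hd₀)] at h3
  exact hd₀' (hinj _ h3)

end inj


section main
variable {B : Type*} [CommRing B] {A : Type*} [CommRing A] [Algebra B A] (I : Ideal A)
  [IsAdicComplete I A] {σ : Type*} [Finite σ]

/-- Structure theorem: if `A` is `I`-adically complete, `x` is a quasi-regular family generating
`I`, and `B → A/I` is bijective, then `B[[X]] → A`, `X i ↦ x i` is an isomorphism. -/
theorem exists_algEquiv (x : σ → A) (hspan : Ideal.span (Set.range x) = I)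
    (hq : ∀ (n : ℕ) (F : MvPolynomial σ A), F.IsHomogeneous n →
      MvPolynomial.eval x F ∈ I ^ (n + 1) → ∀ d, F.coeff d ∈ I)
    (hbij : Function.Bijective ((Ideal.Quotient.mk I).comp (algebraMap B A))) :
    ∃ e : MvPowerSeries σ B ≃ₐ[B] A, (∀ i, e (X i) = x i) ∧
      ∀ f, Ideal.Quotient.mk I (e f) = Ideal.Quotient.mk I (algebraMap B A (constantCoeff f)) := by
  classical
  have hx : ∀ i, x i ∈ I := fun i => hspan ▸ Ideal.subset_span ⟨i, rfl⟩
  obtain ⟨φ, hφ1, hφ2⟩ := exists_eval (B := B) I x hx
  have hX : ∀ i, φ (X i) = x i := by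
    intro i
    have := hφ1 (MvPolynomial.X i)
    rwa [MvPolynomial.coe_X, MvPolynomial.aeval_X] at this
  have hC : ∀ b : B, φ (C b) = algebraMap B A b := by
    intro b
    have : (C b : MvPowerSeries σ B) = algebraMap B (MvPowerSeries σ B) b := rfl
    rw [this, AlgHom.commutes]
  have hconst : ∀ f, Ideal.Quotient.mk I (φ f)
      = Ideal.Quotient.mk I (algebraMap B A (constantCoeff f)) := by
    intro f
    rw [← hC, ← sub_eq_zero, ← map_sub, ← map_sub, Ideal.Quotient.eq_zero_iff_mem]
    have := hφ2 1 (f - C (constantCoeff f)) (by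
      intro d hd
      have hd0 : d = 0 := by
        rw [Nat.lt_one_iff] at hd
        exact (Finsupp.degree_eq_zero_iff d).mp hd
      subst hd0
      simp)
    rwa [pow_one] at this
  have hinj : Function.Injective φ := by
    apply injective_of_quasiRegular I x hq ?_ φ hφ1 hφ2
    intro b hb
    apply hbij.1
    rw [map_zero]
    exact Ideal.Quotient.eq_zero_iff_mem.mpr hb
  have hsurj : Function.Surjective φ := by
    have := surjective_of_complete φ.toRingHom
      (Ideal.span (Set.range (X : σ → MvPowerSeries σ B))) I ?_ ?_ ?_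
    · exact this
    · intro a
      obtain ⟨b, hb⟩ := hbij.2 (Ideal.Quotient.mk I a)
      refine ⟨C b, ?_⟩
      change a - φ (C b) ∈ I
      rw [hC, ← Ideal.Quotient.eq_zero_iff_mem, map_sub, sub_eq_zero]
      exact hb.symm
    · rw [← hspan, Ideal.span_le]
      rintro _ ⟨i, rfl⟩
      rw [← hX i]
      exact Ideal.mem_map_of_mem _ (Ideal.subset_span ⟨i, rfl⟩)
    · rw [Ideal.map_span, Ideal.span_le]
      rintro _ ⟨_, ⟨i, rfl⟩, rfl⟩
      change φ (X i) ∈ I
      rw [hX i]
      exact hx i
  exact ⟨AlgEquiv.ofBijective φ ⟨hinj, hsurj⟩, hX, hconst⟩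

end main

section unit
variable {A : Type*} [CommRing A]

theorem quasiRegular_unit (x : A) (hx : x ∈ nonZeroDivisors A) :
    ∀ (n : ℕ) (F : MvPolynomial Unit A), F.IsHomogeneous n →
      MvPolynomial.eval (fun _ : Unit => x) F ∈ Ideal.span {x} ^ (n + 1) →
      ∀ d, F.coeff d ∈ Ideal.span {x} := by
  classical
  intro n F hF hev d
  by_cases hd0 : F.coeff d = 0
  · rw [hd0]; exact Ideal.zero_mem _
  have hsupp : ∀ d' ∈ F.support, d' = d := by
    intro d' hd'
    have h1 : d'.degree = n := by
      rw [Finsupp.degree_eq_weight_one]; exact hF (MvPolynomial.mem_support_iff.mp hd')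
    have h2 : d.degree = n := by
      rw [Finsupp.degree_eq_weight_one]; exact hF hd0
    ext
    have e1 : d'.degree = d' () := by
      rw [Finsupp.degree_eq_sum]; simp
    have e2 : d.degree = d () := by
      rw [Finsupp.degree_eq_sum]; simp
    show d' () = d ()
    omega
  have hdn : d () = n := by
    have h2 : d.degree = n := by
      rw [Finsupp.degree_eq_weight_one]; exact hF hd0
    have e2 : d.degree = d () := by
      rw [Finsupp.degree_eq_sum]; simp
    omega
  have heval : MvPolynomial.eval (fun _ : Unit => x) F = F.coeff d * x ^ n := by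
    rw [MvPolynomial.eval_eq']
    rw [Finset.sum_eq_single d]
    · simp [hdn]
    · intro d' hd' hne
      exact absurd (hsupp d' hd') hne
    · intro h
      rw [MvPolynomial.notMem_support_iff.mp h, zero_mul]
  rw [heval, Ideal.span_singleton_pow, Ideal.mem_span_singleton'] at hev
  obtain ⟨a, ha⟩ := hev
  rw [Ideal.mem_span_singleton']
  refine ⟨a, ?_⟩
  have hxn : x ^ n ∈ nonZeroDivisors A := pow_mem hx n
  have : (a * x - F.coeff d) * x ^ n = 0 := by
    rw [sub_mul, ← ha, pow_succ]; ring
  have := (mem_nonZeroDivisors_iff_right.mp hxn) _ this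
  exact sub_eq_zero.mp this

end unit

section ps
variable {B : Type*} [CommRing B] {A : Type*} [CommRing A] [Algebra B A]

theorem exists_algEquiv_powerSeries (x : A) (hx : x ∈ nonZeroDivisors A)
    [IsAdicComplete (Ideal.span {x}) A]
    (hbij : Function.Bijective ((Ideal.Quotient.mk (Ideal.span {x})).comp (algebraMap B A))) :
    ∃ e : PowerSeries B ≃ₐ[B] A, e PowerSeries.X = x ∧
      ∀ f, Ideal.Quotient.mk (Ideal.span {x}) (e f)
        = Ideal.Quotient.mk (Ideal.span {x}) (algebraMap B A (PowerSeries.constantCoeff f)) := by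
  obtain ⟨e, he1, he2⟩ := exists_algEquiv (B := B) (Ideal.span {x}) (fun _ : Unit => x)
    (by rw [Set.range_const]) (quasiRegular_unit x hx) hbij
  exact ⟨e, he1 (), he2⟩

end ps


section pow
variable {A : Type*} [CommRing A] (I : Ideal A)

theorem isAdicComplete_pow [IsAdicComplete I A] (k : ℕ) (hk : 0 < k) : IsAdicComplete (I ^ k) A := by
  have hle : ∀ n : ℕ, (I ^ k) ^ n ≤ I ^ n := by
    intro n
    rw [← pow_mul]
    exact Ideal.pow_le_pow_right (Nat.le_mul_of_pos_left n hk)
  have hH : IsHausdorff (I ^ k) A := by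
    refine ⟨fun x hx => ?_⟩
    refine IsHausdorff.haus' (I := I) x fun n => ?_
    have := hx n
    rw [SModEq.zero] at this ⊢
    simp only [smul_eq_mul, Ideal.mul_top] at this ⊢
    exact hle n this
  have hP : IsPrecomplete (I ^ k) A := by
    refine ⟨fun f hf => ?_⟩
    have hf' : ∀ {m n : ℕ}, m ≤ n → f n - f m ∈ (I ^ k) ^ m := by
      intro m n hmn
      have := hf hmn
      rw [SModEq.sub_mem] at this
      simp only [smul_eq_mul, Ideal.mul_top] at this
      rw [← neg_sub]
      exact Ideal.neg_mem_iff _ |>.mpr this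
    obtain ⟨L, hL⟩ := IsPrecomplete.prec' (I := I) f (by
      intro m n hmn
      rw [SModEq.sub_mem]
      simp only [smul_eq_mul, Ideal.mul_top]
      rw [← neg_sub]
      exact Ideal.neg_mem_iff _ |>.mpr (hle m (hf' hmn)))
    refine ⟨L, fun n => ?_⟩
    rw [SModEq.sub_mem]
    simp only [smul_eq_mul, Ideal.mul_top]
    have h1 : f (k * n) - f n ∈ (I ^ k) ^ n := hf' (Nat.le_mul_of_pos_left n hk)
    have h2 : f (k * n) - L ∈ (I ^ k) ^ n := by
      have := hL (k * n)
      rw [SModEq.sub_mem] at this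
      simp only [smul_eq_mul, Ideal.mul_top] at this
      rw [← pow_mul]
      exact this
    have : f n - L = (f (k * n) - L) - (f (k * n) - f n) := by ring
    rw [this]
    exact Ideal.sub_mem _ h2 h1
  exact { toIsHausdorff := hH, toIsPrecomplete := hP }

end pow

section order
variable {B : Type*} [CommRing B] {σ : Type*}

theorem le_order_of_mem_pow : ∀ (n : ℕ) (f : MvPowerSeries σ B),
    f ∈ Ideal.span (Set.range (X : σ → MvPowerSeries σ B)) ^ n → (n : ℕ∞) ≤ f.order := by
  intro n
  induction n with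
  | zero => intro f _; simp
  | succ n ih =>
    intro f hf
    rw [pow_succ'] at hf
    refine Submodule.mul_induction_on hf ?_ ?_
    · intro a ha b hb
      have h1 : (1 : ℕ∞) ≤ a.order := by
        rw [one_le_order_iff_constCoeff_eq_zero]
        have : Ideal.span (Set.range (X : σ → MvPowerSeries σ B)) ≤
            RingHom.ker (constantCoeff (σ := σ) (R := B)) := by
          rw [Ideal.span_le]
          rintro _ ⟨i, rfl⟩
          simp [RingHom.mem_ker]
        exact this ha
      have h2 := ih b hb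
      calc ((n + 1 : ℕ) : ℕ∞) = 1 + n := by push_cast; ring
        _ ≤ a.order + b.order := add_le_add h1 h2
        _ ≤ (a * b).order := le_order_mul
    · intro x y hx hy
      exact le_trans (le_min hx hy) min_order_le_add

theorem coeff_eq_zero_of_mem_pow {n : ℕ} {f : MvPowerSeries σ B}
    (hf : f ∈ Ideal.span (Set.range (X : σ → MvPowerSeries σ B)) ^ n) {d : σ →₀ ℕ}
    (hd : d.degree < n) : coeff d f = 0 := by
  apply coeff_of_lt_order
  exact lt_of_lt_of_le (by exact_mod_cast hd) (le_order_of_mem_pow n f hf)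

theorem exists_trunc [Finite σ] (n : ℕ) (f : MvPowerSeries σ B) :
    ∃ p : MvPolynomial σ B, ∀ d : σ →₀ ℕ, d.degree < n →
      coeff d (f - (p : MvPowerSeries σ B)) = 0 := by
  classical
  haveI := Fintype.ofFinite σ
  let N : σ →₀ ℕ := Finsupp.equivFunOnFinite.symm (fun _ => n)
  refine ⟨trunc' B N f, fun d hd => ?_⟩
  rw [map_sub, MvPolynomial.coeff_coe, coeff_trunc', if_pos, sub_self]
  intro i
  have h1 : d i ≤ d.degree := by
    rw [Finsupp.degree_eq_sum]
    exact Finset.single_le_sum (f := fun j => d j) (fun _ _ => Nat.zero_le _) (Finset.mem_univ i)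
  have : N i = n := rfl
  rw [this]
  omega

end order


end Groth.Agent.Lib.Helper90.PSUniv
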