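import Mathlib
import Groth.Agent.Lib.Helper90.PSUniv

/-!
# Powers of the ideal of variables in a multivariate power series ring (helper90)
-/

set_option autoImplicit false
set_option linter.unusedSectionVars false
universe u v

namespace Groth.Agent.Lib.Helper90.PSIdeal

open MvPowerSeries

variable {σ : Type u} {B : Type v} [CommRing B] [Fintype σ] [LinearOrder σ]

/-- the part of `f` consisting of the monomials whose smallest variable is `i` -/
noncomputable def part (f : MvPowerSeries σ B) (i : σ) : MvPowerSeries σ B :=
  fun d => if h : d.support.Nonempty then (if d.support.min' h = i then coeff d f else 0) else 0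

theorem coeff_part (f : MvPowerSeries σ B) (i : σ) (d : σ →₀ ℕ) :
    coeff d (part f i) =
      if h : d.support.Nonempty then (if d.support.min' h = i then coeff d f else 0) else 0 := rfl

theorem X_dvd_part (f : MvPowerSeries σ B) (i : σ) : (X i : MvPowerSeries σ B) ∣ part f i := by
  rw [X_dvd_iff]
  intro m hm
  rw [coeff_part]
  split_ifs with h h2
  · exfalso
    have := Finset.min'_mem m.support h
    rw [h2, Finsupp.mem_support_iff] at this
    exact this hm
  · rfl
  · rfl

theorem eq_sum_part (f : MvPowerSeries σ B) (hf : constantCoeff f = 0) :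
    f = ∑ i, part f i := by
  ext d
  rw [map_sum]
  simp only [coeff_part]
  by_cases h : d.support.Nonempty
  · simp only [h, dite_true]
    rw [Finset.sum_ite_eq]
    simp
  · simp only [h, dite_false, Finset.sum_const_zero]
    rw [Finset.not_nonempty_iff_eq_empty, Finsupp.support_eq_empty] at h
    rw [h]
    exact hf

theorem mem_pow_of_coeff : ∀ (n : ℕ) (f : MvPowerSeries σ B),
    (∀ d : σ →₀ ℕ, d.degree < n → coeff d f = 0) →
    f ∈ Ideal.span (Set.range (X : σ → MvPowerSeries σ B)) ^ n := by
  intro n
  induction n with
  | zero => intro f _; simp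
  | succ n ih =>
    intro f hf
    have h0 : constantCoeff f = 0 := by
      rw [← coeff_zero_eq_constantCoeff_apply]
      exact hf 0 (by simp)
    rw [eq_sum_part f h0]
    refine Ideal.sum_mem _ (fun i _ => ?_)
    obtain ⟨g, hg⟩ := X_dvd_part f i
    rw [hg, pow_succ']
    refine Ideal.mul_mem_mul (Ideal.subset_span ⟨i, rfl⟩) (ih g (fun e he => ?_))
    have h1 : coeff (Finsupp.single i 1 + e) (part f i) = coeff e g := by
      rw [hg, X_def, coeff_add_monomial_mul, one_mul]
    rw [← h1, coeff_part]
    have h2 : coeff (Finsupp.single i 1 + e) f = 0 := by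
      apply hf
      rw [map_add, Finsupp.degree_single]
      omega
    split_ifs <;> simp [h2]

theorem mem_pow_iff (n : ℕ) (f : MvPowerSeries σ B) :
    f ∈ Ideal.span (Set.range (X : σ → MvPowerSeries σ B)) ^ n ↔
      ∀ d : σ →₀ ℕ, d.degree < n → coeff d f = 0 := by
  constructor
  · intro hf d hd
    exact Groth.Agent.Lib.Helper90.PSUniv.coeff_eq_zero_of_mem_pow hf hd
  · exact mem_pow_of_coeff n f

theorem mem_span_X_iff (f : MvPowerSeries σ B) :
    f ∈ Ideal.span (Set.range (X : σ → MvPowerSeries σ B)) ↔ constantCoeff f = 0 := by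
  have := mem_pow_iff 1 f
  rw [pow_one] at this
  rw [this]
  constructor
  · intro h
    rw [← coeff_zero_eq_constantCoeff_apply]
    exact h 0 (by simp)
  · intro h d hd
    have hd0 : d = 0 := by
      have : d.degree = 0 := by omega
      exact (Finsupp.degree_eq_zero_iff d).mp this
    rw [hd0]
    exact h

theorem maximalIdeal_eq_span_X {K : Type v} [Field K] :
    IsLocalRing.maximalIdeal (MvPowerSeries σ K) =
      Ideal.span (Set.range (X : σ → MvPowerSeries σ K)) := by
  ext f
  rw [mem_span_X_iff, IsLocalRing.mem_maximalIdeal, mem_nonunits_iff,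
    MvPowerSeries.isUnit_iff_constantCoeff, isUnit_iff_ne_zero, not_not]

end Groth.Agent.Lib.Helper90.PSIdeal
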