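import Mathlib
import Groth.Agent.Lib.Helper90.PSUniv
import Groth.Agent.Lib.Helper90.PSIdeal

/-!
# Surjections from power series rings onto complete local rings (helper90)
-/

set_option autoImplicit false
set_option linter.style.haveILetI false
universe u v

namespace Groth.Agent.Lib.Helper90.PSSurj

open MvPowerSeries Groth.Agent.Lib.Helper90

section
variable {B : Type*} [CommRing B] {A : Type*} [CommRing A] [Algebra B A] (I : Ideal A)
  [IsAdicComplete I A] {σ : Type*} [Finite σ]

/-- evaluation `B[[X]] → A` at generators of `I` is surjective as soon as `B → A/I` is. -/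
theorem exists_surjective_eval (x : σ → A) (hspan : Ideal.span (Set.range x) = I)
    (hsurj : Function.Surjective ((Ideal.Quotient.mk I).comp (algebraMap B A))) :
    ∃ φ : MvPowerSeries σ B →ₐ[B] A, Function.Surjective φ ∧ (∀ i, φ (X i) = x i) ∧
      (∀ p : MvPolynomial σ B, φ (p : MvPowerSeries σ B) = MvPolynomial.aeval x p) ∧
      (∀ (n : ℕ) (f : MvPowerSeries σ B), (∀ d : σ →₀ ℕ, d.degree < n → coeff d f = 0) →
        φ f ∈ I ^ n) := by
  classical
  have hx : ∀ i, x i ∈ I := fun i => hspan ▸ Ideal.subset_span ⟨i, rfl⟩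
  obtain ⟨φ, hφ1, hφ2⟩ := PSUniv.exists_eval (B := B) I x hx
  have hX : ∀ i, φ (X i) = x i := by
    intro i
    have := hφ1 (MvPolynomial.X i)
    rwa [MvPolynomial.coe_X, MvPolynomial.aeval_X] at this
  have hC : ∀ b : B, φ (C b) = algebraMap B A b := by
    intro b
    have : (C b : MvPowerSeries σ B) = algebraMap B (MvPowerSeries σ B) b := rfl
    rw [this, AlgHom.commutes]
  refine ⟨φ, ?_, hX, hφ1, hφ2⟩
  have := PSUniv.surjective_of_complete φ.toRingHom
    (Ideal.span (Set.range (X : σ → MvPowerSeries σ B))) I ?_ ?_ ?_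
  · exact this
  · intro a
    obtain ⟨b, hb⟩ := hsurj (Ideal.Quotient.mk I a)
    refine ⟨C b, ?_⟩
    change a - φ (C b) ∈ I
    rw [hC, ← Ideal.Quotient.eq_zero_iff_mem, map_sub, sub_eq_zero]
    exact hb.symm
  · rw [← hspan, Ideal.span_le]
    rintro _ ⟨i, rfl⟩
    rw [← hX i]
    exact Ideal.mem_map_of_mem _ (Ideal.subset_span ⟨i, rfl⟩)
  · rw [Ideal.map_span, Ideal.span_le]
    rintro _ ⟨_, ⟨i, rfl⟩, rfl⟩
    change φ (X i) ∈ I
    rw [hX i]
    exact hx i

end

open IsLocalRing

theorem eq_zero_or_single_of_degree_lt_two {σ : Type*} (d : σ →₀ ℕ) (hd : d.degree < 2) :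
    d = 0 ∨ ∃ j, d = Finsupp.single j 1 := by
  classical
  by_cases h0 : d = 0
  · exact Or.inl h0
  · right
    obtain ⟨j, hj⟩ : ∃ j, d j ≠ 0 := by
      by_contra hcon
      push Not at hcon
      exact h0 (Finsupp.ext hcon)
    refine ⟨j, ?_⟩
    have hle : Finsupp.single j 1 ≤ d := by
      rw [Finsupp.single_le_iff]
      exact Nat.one_le_iff_ne_zero.mpr hj
    have hdec : d = Finsupp.single j 1 + (d - Finsupp.single j 1) := (add_tsub_cancel_of_le hle).symm
    have hdeg : d.degree = 1 + (d - Finsupp.single j 1).degree := by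
      conv_lhs => rw [hdec]
      rw [map_add, Finsupp.degree_single]
    have : (d - Finsupp.single j 1).degree = 0 := by omega
    have h2 : d - Finsupp.single j 1 = 0 := (Finsupp.degree_eq_zero_iff _).mp this
    rw [h2, add_zero] at hdec
    exact hdec

/-- minimal generators of the maximal ideal of a Noetherian local ring are linearly independent
modulo `m²` -/
theorem mem_maximalIdeal_of_sum_mem_sq {A : Type u} [CommRing A] [IsLocalRing A] [IsNoetherianRing A]
    {n : ℕ} (hn : n = (maximalIdeal A).spanFinrank) (x : Fin n → A)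
    (hx : Ideal.span (Set.range x) = maximalIdeal A) (a : Fin n → A)
    (h : ∑ i, a i * x i ∈ maximalIdeal A ^ 2) : ∀ i, a i ∈ maximalIdeal A := by
  classical
  have hxm : ∀ i, x i ∈ maximalIdeal A := fun i => hx ▸ Ideal.subset_span ⟨i, rfl⟩
  let v : Fin n → CotangentSpace A := fun i => (maximalIdeal A).toCotangent ⟨x i, hxm i⟩
  have hspan : ⊤ ≤ Submodule.span (ResidueField A) (Set.range v) := by
    intro y _
    obtain ⟨⟨z, hz⟩, rfl⟩ := (maximalIdeal A).toCotangent_surjective y
    have hz' : z ∈ Ideal.span (Set.range x) := hx ▸ hz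
    obtain ⟨c, hc⟩ := (Ideal.mem_span_range_iff_exists_fun).mp hz'
    have : (maximalIdeal A).toCotangent ⟨z, hz⟩ = ∑ i, residue A (c i) • v i := by
      have h1 : (⟨z, hz⟩ : maximalIdeal A) = ∑ i, c i • (⟨x i, hxm i⟩ : maximalIdeal A) := by
        apply Subtype.ext
        show z = _
        rw [← hc]
        simp
      rw [h1, map_sum]
      refine Finset.sum_congr rfl (fun i _ => ?_)
      rw [map_smul]
      rfl
    rw [this]
    exact Submodule.sum_mem _ (fun i _ => Submodule.smul_mem _ _ (Submodule.subset_span ⟨i, rfl⟩))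
  have hcard : Fintype.card (Fin n) = Module.finrank (ResidueField A) (CotangentSpace A) := by
    rw [Fintype.card_fin, hn, spanFinrank_maximalIdeal_eq_finrank_cotangentSpace]
  have hli : LinearIndependent (ResidueField A) v :=
    linearIndependent_of_top_le_span_of_card_eq_finrank hspan hcard
  have hzero : ∑ i, residue A (a i) • v i = 0 := by
    have h1 : (maximalIdeal A).toCotangent
        ⟨∑ i, a i * x i, Ideal.sum_mem _ (fun i _ => Ideal.mul_mem_left _ _ (hxm i))⟩ = 0 := by
      rw [Ideal.toCotangent_eq_zero]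
      exact h
    have h2 : (⟨∑ i, a i * x i, Ideal.sum_mem _ (fun i _ => Ideal.mul_mem_left _ _ (hxm i))⟩ :
        maximalIdeal A) = ∑ i, a i • (⟨x i, hxm i⟩ : maximalIdeal A) := by
      apply Subtype.ext
      simp
    rw [h2, map_sum] at h1
    rw [← h1]
    refine Finset.sum_congr rfl (fun i _ => ?_)
    rw [map_smul]
    rfl
  intro i
  have := (Fintype.linearIndependent_iff.mp hli) (fun i => residue A (a i)) hzero i
  exact (residue_eq_zero_iff _).mp this

/-- **Cohen structure theorem, equal characteristic, surjective form**: a complete Noetherian local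
ring with a coefficient field is a quotient of a power series ring over its residue field, by an
ideal contained in the square of the maximal ideal. -/
theorem exists_surjective_of_coeffField (A : Type u) [CommRing A] [IsLocalRing A]
    [IsNoetherianRing A] [IsAdicComplete (maximalIdeal A) A]
    (s : ResidueField A →+* A) (hs : ∀ x, residue A (s x) = x) :
    ∃ (n : ℕ) (f : MvPowerSeries (Fin n) (ResidueField A) →+* A), Function.Surjective f ∧
      RingHom.ker f ≤ maximalIdeal (MvPowerSeries (Fin n) (ResidueField A)) ^ 2 ∧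
      (∀ c, f (C c) = s c) ∧ ∀ i, f (X i) ∈ maximalIdeal A := by
  classical
  letI : Algebra (ResidueField A) A := s.toAlgebra
  obtain ⟨t, ht1, ht2⟩ := Submodule.FG.exists_span_finset_card_eq_spanFinrank
    (IsNoetherian.noetherian (maximalIdeal A))
  set n := (maximalIdeal A).spanFinrank with hn
  let e : Fin n ≃ t := (t.equivFinOfCardEq ht1).symm
  let x : Fin n → A := fun i => (e i : A)
  have hx : Ideal.span (Set.range x) = maximalIdeal A := by
    rw [← ht2]
    congr 1
    ext y
    constructor
    · rintro ⟨i, rfl⟩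
      exact (e i).2
    · intro hy
      exact ⟨e.symm ⟨y, hy⟩, by simp [x]⟩
  have hxm : ∀ i, x i ∈ maximalIdeal A := fun i => hx ▸ Ideal.subset_span ⟨i, rfl⟩
  obtain ⟨φ, hφs, hφX, hφ1, hφ2⟩ := exists_surjective_eval (B := ResidueField A)
    (maximalIdeal A) x hx (by
      intro y
      exact ⟨y, hs y⟩)
  have hC : ∀ c, φ (C c) = s c := by
    intro c
    have : (C c : MvPowerSeries (Fin n) (ResidueField A)) = algebraMap _ _ c := rfl
    rw [this, AlgHom.commutes]
    rfl
  refine ⟨n, φ.toRingHom, hφs, ?_, hC, fun i => ?_⟩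
  · intro f hf
    rw [PSIdeal.maximalIdeal_eq_span_X]
    apply PSIdeal.mem_pow_of_coeff
    have hf0 : φ f = 0 := hf
    -- the polynomial part of degree ≤ 1
    let p : MvPolynomial (Fin n) (ResidueField A) :=
      MvPolynomial.C (constantCoeff f) + ∑ i, MvPolynomial.C (coeff (Finsupp.single i 1) f) * MvPolynomial.X i
    have hg : ∀ d : Fin n →₀ ℕ, d.degree < 2 → coeff d (f - (p : MvPowerSeries (Fin n) (ResidueField A))) = 0 := by
      intro d hd
      rw [map_sub, MvPolynomial.coeff_coe, sub_eq_zero]
      rcases eq_zero_or_single_of_degree_lt_two d hd with rfl | ⟨j, rfl⟩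
      · simp only [p, MvPolynomial.coeff_add, MvPolynomial.coeff_sum, MvPolynomial.coeff_C_mul,
          MvPolynomial.coeff_C, MvPolynomial.coeff_X]
        simp
      · simp only [p, MvPolynomial.coeff_add, MvPolynomial.coeff_sum, MvPolynomial.coeff_C_mul,
          MvPolynomial.coeff_C, MvPolynomial.coeff_X]
        simp [Finsupp.single_left_inj]
        intro h
        exact absurd h.symm (by simp)
    have h2 := hφ2 2 _ hg
    rw [map_sub, hf0, zero_sub, neg_mem_iff, hφ1] at h2
    have h3 : MvPolynomial.aeval x p = s (constantCoeff f) + ∑ i, s (coeff (Finsupp.single i 1) f) * x i := by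
      simp only [p, map_add, map_sum, map_mul, MvPolynomial.aeval_C, MvPolynomial.aeval_X]
      rfl
    rw [h3] at h2
    have hsum : ∑ i, s (coeff (Finsupp.single i 1) f) * x i ∈ maximalIdeal A :=
      Ideal.sum_mem _ (fun i _ => Ideal.mul_mem_left _ _ (hxm i))
    have hc0 : constantCoeff f = 0 := by
      have h4 : s (constantCoeff f) ∈ maximalIdeal A := by
        have := Ideal.sub_mem _ (Ideal.pow_le_self (two_ne_zero) h2) hsum
        simpa using this
      have := (residue_eq_zero_iff _).mpr h4
      rwa [hs] at this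
    rw [hc0, map_zero, zero_add] at h2
    have h5 := mem_maximalIdeal_of_sum_mem_sq hn x hx _ h2
    have hci : ∀ i, coeff (Finsupp.single i 1) f = 0 := by
      intro i
      have := (residue_eq_zero_iff _).mpr (h5 i)
      rwa [hs] at this
    intro d hd
    rcases eq_zero_or_single_of_degree_lt_two d hd with rfl | ⟨j, rfl⟩
    · exact hc0
    · exact hci j
  · change φ (X i) ∈ maximalIdeal A
    rw [hφX]
    exact hxm i

/-- Variant of `exists_surjective_of_coeffField` with an arbitrary field `K` mapping isomorphically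
onto the residue field. -/
theorem exists_surjective_of_field (A : Type u) [CommRing A] [IsLocalRing A]
    [IsNoetherianRing A] [IsAdicComplete (maximalIdeal A) A] (K : Type u) [Field K]
    (s : K →+* A) (hs : Function.Bijective ((residue A).comp s)) :
    ∃ (n : ℕ) (f : MvPowerSeries (Fin n) K →+* A), Function.Surjective f ∧
      RingHom.ker f ≤ maximalIdeal (MvPowerSeries (Fin n) K) ^ 2 ∧
      (∀ c, f (C c) = s c) ∧ (∀ i, f (X i) ∈ maximalIdeal A) ∧
      n = (maximalIdeal A).spanFinrank := by
  classical
  letI : Algebra K A := s.toAlgebra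
  obtain ⟨t, ht1, ht2⟩ := Submodule.FG.exists_span_finset_card_eq_spanFinrank
    (IsNoetherian.noetherian (maximalIdeal A))
  set n := (maximalIdeal A).spanFinrank with hn
  let e : Fin n ≃ t := (t.equivFinOfCardEq ht1).symm
  let x : Fin n → A := fun i => (e i : A)
  have hx : Ideal.span (Set.range x) = maximalIdeal A := by
    rw [← ht2]
    congr 1
    ext y
    constructor
    · rintro ⟨i, rfl⟩
      exact (e i).2
    · intro hy
      exact ⟨e.symm ⟨y, hy⟩, by simp [x]⟩
  have hxm : ∀ i, x i ∈ maximalIdeal A := fun i => hx ▸ Ideal.subset_span ⟨i, rfl⟩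
  obtain ⟨φ, hφs, hφX, hφ1, hφ2⟩ := exists_surjective_eval (B := K)
    (maximalIdeal A) x hx (by
      intro y
      exact hs.2 y)
  have hC : ∀ c, φ (C c) = s c := by
    intro c
    have : (C c : MvPowerSeries (Fin n) K) = algebraMap _ _ c := rfl
    rw [this, AlgHom.commutes]
    rfl
  refine ⟨n, φ.toRingHom, hφs, ?_, hC, fun i => ?_, hn⟩
  · intro f hf
    rw [PSIdeal.maximalIdeal_eq_span_X]
    apply PSIdeal.mem_pow_of_coeff
    have hf0 : φ f = 0 := hf
    -- the polynomial part of degree ≤ 1
    let p : MvPolynomial (Fin n) K :=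
      MvPolynomial.C (constantCoeff f) + ∑ i, MvPolynomial.C (coeff (Finsupp.single i 1) f) * MvPolynomial.X i
    have hg : ∀ d : Fin n →₀ ℕ, d.degree < 2 → coeff d (f - (p : MvPowerSeries (Fin n) K)) = 0 := by
      intro d hd
      rw [map_sub, MvPolynomial.coeff_coe, sub_eq_zero]
      rcases eq_zero_or_single_of_degree_lt_two d hd with rfl | ⟨j, rfl⟩
      · simp only [p, MvPolynomial.coeff_add, MvPolynomial.coeff_sum, MvPolynomial.coeff_C_mul,
          MvPolynomial.coeff_C, MvPolynomial.coeff_X]
        simp
      · simp only [p, MvPolynomial.coeff_add, MvPolynomial.coeff_sum, MvPolynomial.coeff_C_mul,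
          MvPolynomial.coeff_C, MvPolynomial.coeff_X]
        simp [Finsupp.single_left_inj]
        intro h
        exact absurd h.symm (by simp)
    have h2 := hφ2 2 _ hg
    rw [map_sub, hf0, zero_sub, neg_mem_iff, hφ1] at h2
    have h3 : MvPolynomial.aeval x p = s (constantCoeff f) + ∑ i, s (coeff (Finsupp.single i 1) f) * x i := by
      simp only [p, map_add, map_sum, map_mul, MvPolynomial.aeval_C, MvPolynomial.aeval_X]
      rfl
    rw [h3] at h2
    have hsum : ∑ i, s (coeff (Finsupp.single i 1) f) * x i ∈ maximalIdeal A :=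
      Ideal.sum_mem _ (fun i _ => Ideal.mul_mem_left _ _ (hxm i))
    have hc0 : constantCoeff f = 0 := by
      have h4 : s (constantCoeff f) ∈ maximalIdeal A := by
        have := Ideal.sub_mem _ (Ideal.pow_le_self (two_ne_zero) h2) hsum
        simpa using this
      have := (residue_eq_zero_iff _).mpr h4
      exact hs.1 (by rw [map_zero]; exact this)
    rw [hc0, map_zero, zero_add] at h2
    have h5 := mem_maximalIdeal_of_sum_mem_sq hn x hx _ h2
    have hci : ∀ i, coeff (Finsupp.single i 1) f = 0 := by
      intro i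
      have := (residue_eq_zero_iff _).mpr (h5 i)
      exact hs.1 (by rw [map_zero]; exact this)
    intro d hd
    rcases eq_zero_or_single_of_degree_lt_two d hd with rfl | ⟨j, rfl⟩
    · exact hc0
    · exact hci j
  · change φ (X i) ∈ maximalIdeal A
    rw [hφX]
    exact hxm i

end Groth.Agent.Lib.Helper90.PSSurj
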