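import Groth.Prelude.Def_CAlgX
import Groth.Agent.Lib.Helper18.RegQuasiReg
import Mathlib

/-! helper90: quasi-regular sequences in the Jacobson radical of a Noetherian ring are regular
(Matsumura 16.3 for `M = A`), on top of helper18's `RegQuasiReg`. -/

set_option autoImplicit false
universe u
open MvPolynomial

namespace Groth.Agent.Lib.Helper90.QuasiRegReg

open Groth.Agent.Lib.Helper18

section colon

variable {A : Type u} [CommRing A] {c : ℕ}

/-- colon lemma: for a quasi-regular sequence `f`, `f 0 * ω ∈ I^(n+1)` implies `ω ∈ I^n`. -/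
theorem mem_pow_of_head_mul_mem (f : Fin (c + 1) → A) (hq : CAlgX.IsQuasiRegular f) :
    ∀ (n : ℕ) (ω : A), f 0 * ω ∈ Ideal.span (Set.range f) ^ (n + 1) →
      ω ∈ Ideal.span (Set.range f) ^ n := by
  classical
  intro n
  induction n with
  | zero => intro ω _; simp
  | succ n ih =>
    intro ω hω
    have h1 : ω ∈ Ideal.span (Set.range f) ^ n :=
      ih ω (Ideal.pow_le_pow_right (Nat.le_succ _) hω)
    obtain ⟨G, hG, hGe⟩ := exists_homogeneous_eval_eq_of_mem_pow f n h1
    have hXG : (X 0 * G : MvPolynomial (Fin (c + 1)) A).IsHomogeneous (n + 1) := by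
      have := (isHomogeneous_X A (0 : Fin (c + 1))).mul hG
      exact (Nat.add_comm 1 n) ▸ this
    have hev : eval f (X 0 * G) ∈ Ideal.span (Set.range f) ^ (n + 1 + 1) := by
      rw [map_mul, eval_X, hGe]; exact hω
    have hco := hq (n + 1) (X 0 * G) hXG hev
    have hG' : ∀ d, coeff d G ∈ Ideal.span (Set.range f) := by
      intro d
      have := hco (Finsupp.single 0 1 + d)
      rwa [coeff_X_mul] at this
    have := eval_mem_mul_pow f _ hG hG'
    rw [hGe] at this
    rwa [pow_succ']

theorem eq_zero_of_head_mul_eq_zero [IsNoetherianRing A] (f : Fin (c + 1) → A)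
    (hq : CAlgX.IsQuasiRegular f) (hj : Ideal.span (Set.range f) ≤ Ideal.jacobson ⊥)
    (x : A) (hx : f 0 * x = 0) : x = 0 := by
  have h1 : ∀ n : ℕ, x ∈ Ideal.span (Set.range f) ^ n := by
    intro n
    apply mem_pow_of_head_mul_mem f hq n x
    rw [hx]; exact Ideal.zero_mem _
  have h2 := Ideal.iInf_pow_smul_eq_bot_of_le_jacobson (R := A) (M := A) _ hj
  have h3 : x ∈ (⨅ i : ℕ, Ideal.span (Set.range f) ^ i • ⊤ : Submodule A A) := by
    rw [Submodule.mem_iInf]
    intro i
    rw [smul_eq_mul, Ideal.mul_top]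
    exact h1 i
  rw [h2] at h3
  exact (Submodule.mem_bot A).mp h3

end colon

section quot

variable {A : Type u} [CommRing A] {c : ℕ}

/-- a homogeneous lift of a polynomial along a surjective ring hom -/
theorem exists_homogeneous_lift {B : Type u} [CommRing B] (φ : A →+* B)
    (hφ : Function.Surjective φ) {n : ℕ} (P : MvPolynomial (Fin c) B) (hP : P.IsHomogeneous n) :
    ∃ Q : MvPolynomial (Fin c) A, Q.IsHomogeneous n ∧ map φ Q = P := by
  classical
  choose s hs using hφ
  refine ⟨∑ d ∈ P.support, monomial d (s (coeff d P)), ?_, ?_⟩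
  · apply IsHomogeneous.sum
    intro d hd
    apply isHomogeneous_monomial
    rw [← weight_one_eq_degree]
    exact hP (mem_support_iff.mp hd)
  · rw [map_sum]
    simp_rw [map_monomial, hs]
    exact support_sum_monomial_coeff P

theorem map_mk_span_eq (f : Fin (c + 1) → A) :
    Ideal.map (Ideal.Quotient.mk (Ideal.span {f 0})) (Ideal.span (Set.range f))
      = Ideal.span (Set.range fun i : Fin c => Ideal.Quotient.mk (Ideal.span {f 0}) (f i.succ)) := by
  rw [Ideal.map_span]
  apply le_antisymm
  · rw [Ideal.span_le]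
    rintro _ ⟨_, ⟨i, rfl⟩, rfl⟩
    refine Fin.cases ?_ (fun j => ?_) i
    · have : Ideal.Quotient.mk (Ideal.span {f 0}) (f 0) = 0 := by
        rw [Ideal.Quotient.eq_zero_iff_mem]
        exact Ideal.subset_span rfl
      rw [this]
      exact Ideal.zero_mem _
    · exact Ideal.subset_span ⟨j, rfl⟩
  · rw [Ideal.span_le]
    rintro _ ⟨j, rfl⟩
    exact Ideal.subset_span ⟨f j.succ, ⟨j.succ, rfl⟩, rfl⟩

theorem map_mk_span_tail_eq (f : Fin (c + 1) → A) :
    Ideal.map (Ideal.Quotient.mk (Ideal.span {f 0}))
        (Ideal.span (Set.range fun i : Fin c => f i.succ))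
      = Ideal.span (Set.range fun i : Fin c => Ideal.Quotient.mk (Ideal.span {f 0}) (f i.succ)) := by
  rw [Ideal.map_span]
  congr 1
  ext y
  constructor
  · rintro ⟨_, ⟨i, rfl⟩, rfl⟩
    exact ⟨i, rfl⟩
  · rintro ⟨i, rfl⟩
    exact ⟨_, ⟨i, rfl⟩, rfl⟩

/-- the tail of a quasi-regular sequence is quasi-regular modulo the head. -/
theorem isQuasiRegular_quot (f : Fin (c + 1) → A) (hq : CAlgX.IsQuasiRegular f) :
    CAlgX.IsQuasiRegular
      (fun i : Fin c => Ideal.Quotient.mk (Ideal.span {f 0}) (f i.succ)) := by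
  classical
  set mk := Ideal.Quotient.mk (Ideal.span {f 0}) with hmk
  set I := Ideal.span (Set.range f) with hI
  set f' : Fin c → A := fun i => f i.succ with hf'
  set I' := Ideal.span (Set.range f') with hI'
  have hI'I : I' ≤ I := by
    rw [hI', Ideal.span_le]
    rintro _ ⟨i, rfl⟩
    exact Ideal.subset_span ⟨i.succ, rfl⟩
  have hmapI : Ideal.map mk I = Ideal.span (Set.range fun i : Fin c => mk (f i.succ)) :=
    map_mk_span_eq f
  have hmapI' : Ideal.map mk I' = Ideal.span (Set.range fun i : Fin c => mk (f i.succ)) :=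
    map_mk_span_tail_eq f
  intro n P hP hPe d'
  obtain ⟨Pt, hPt, hPtm⟩ := exists_homogeneous_lift mk Ideal.Quotient.mk_surjective P hP
  -- reduce to: all coefficients of `Pt` lie in `I`
  suffices h : ∀ d, coeff d Pt ∈ I by
    rw [← hPtm, coeff_map, ← hmapI]
    exact Ideal.mem_map_of_mem _ (h d')
  -- the value
  have hval : mk (eval f' Pt) = eval (fun i : Fin c => mk (f i.succ)) P := by
    rw [map_eval, hPtm]
    rfl
  rw [← hval, ← hmapI', ← Ideal.map_pow] at hPe
  obtain ⟨y, hy, hye⟩ := (Ideal.mem_map_iff_of_surjective mk Ideal.Quotient.mk_surjective).mp hPe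
  have hsub : eval f' Pt - y ∈ Ideal.span {f 0} := by
    rw [← Ideal.Quotient.eq, hye]
  obtain ⟨ω, hω⟩ := Ideal.mem_span_singleton'.mp hsub
  have hyI : y ∈ I ^ (n + 1) := Ideal.pow_right_mono hI'I _ hy
  have hPtI : eval f' Pt ∈ I ^ n := Ideal.pow_right_mono hI'I _ (eval_mem_pow f' hPt)
  rcases n with _ | m
  · -- degree zero
    intro d
    have hc : Pt = C (coeff 0 Pt) := by
      have := hPt.totalDegree_le
      exact totalDegree_eq_zero_iff_eq_C.mp (Nat.le_zero.mp this)
    have hev : eval f' Pt = coeff 0 Pt := by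
      rw [hc]; simp
    have h0 : coeff 0 Pt ∈ I := by
      have : coeff 0 Pt = y + ω * f 0 := by
        rw [hω, ← hev]; ring
      rw [this]
      refine I.add_mem ?_ (I.mul_mem_left _ (Ideal.subset_span ⟨0, rfl⟩))
      simpa using hyI
    rw [hc, coeff_C]
    split_ifs
    · exact h0
    · exact I.zero_mem
  · -- positive degree
    have hf0ω : f 0 * ω ∈ I ^ (m + 1) := by
      have : f 0 * ω = eval f' Pt - y := by rw [← hω]; ring
      rw [this]
      exact (I ^ (m + 1)).sub_mem hPtI (Ideal.pow_le_pow_right (Nat.le_succ _) hyI)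
    have hωm : ω ∈ I ^ m := mem_pow_of_head_mul_mem f hq m ω hf0ω
    obtain ⟨H, hH, hHe⟩ := exists_homogeneous_eval_eq_of_mem_pow f m hωm
    set Q : MvPolynomial (Fin (c + 1)) A := rename Fin.succ Pt - X 0 * H with hQ
    have hQh : Q.IsHomogeneous (m + 1) := by
      refine IsHomogeneous.sub (hPt.rename_isHomogeneous) ?_
      have := (isHomogeneous_X A (0 : Fin (c + 1))).mul hH
      exact (Nat.add_comm 1 m) ▸ this
    have hQe : eval f Q = y := by
      rw [hQ, map_sub, eval_rename, map_mul, eval_X, hHe]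
      have : eval (f ∘ Fin.succ) Pt = eval f' Pt := rfl
      rw [this]
      linear_combination (-1 : A) * hω
    have hco := hq (m + 1) Q hQh (by rw [hQe]; exact hyI)
    intro d
    have h1 := hco (d.mapDomain Fin.succ)
    have h2 : coeff (d.mapDomain Fin.succ) Q = coeff d Pt := by
      rw [hQ, coeff_sub, coeff_rename_mapDomain _ (Fin.succ_injective c), coeff_X_mul']
      have : (0 : Fin (c + 1)) ∉ (d.mapDomain Fin.succ).support := by
        intro h0
        have := Finsupp.mapDomain_support h0
        rw [Finset.mem_image] at this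
        obtain ⟨j, -, hj⟩ := this
        exact Fin.succ_ne_zero j hj
      rw [if_neg this, sub_zero]
    rwa [h2] at h1

end quot

section main

/-- **quasi-regular ⇒ regular** for sequences in the Jacobson radical of a Noetherian ring. -/
theorem isWeaklyRegular_of_isQuasiRegular : ∀ (c : ℕ) (A : Type u) [CommRing A] [IsNoetherianRing A]
    (f : Fin c → A), (∀ i, f i ∈ Ring.jacobson A) → CAlgX.IsQuasiRegular f →
    RingTheory.Sequence.IsWeaklyRegular A (List.ofFn f) := by
  intro c
  induction c with
  | zero =>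
    intro A _ _ f _ _
    simp
  | succ c ih =>
    intro A _ _ f hf hq
    have hj : Ideal.span (Set.range f) ≤ Ideal.jacobson ⊥ := by
      rw [Ideal.jacobson_bot, Ideal.span_le]
      rintro _ ⟨i, rfl⟩
      exact hf i
    rw [List.ofFn_succ, RingTheory.Sequence.isWeaklyRegular_cons_iff]
    constructor
    · -- f 0 is a nonzerodivisor
      intro x y hxy
      have h0 : f 0 * (x - y) = 0 := by
        have : f 0 • x = f 0 • y := hxy
        simp only [smul_eq_mul] at this
        rw [mul_sub, this, sub_self]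
      exact sub_eq_zero.mp (eq_zero_of_head_mul_eq_zero f hq hj _ h0)
    · -- the tail
      set B := A ⧸ Ideal.span {f 0} with hB
      have hqB := isQuasiRegular_quot f hq
      have hfB : ∀ i : Fin c, Ideal.Quotient.mk (Ideal.span {f 0}) (f i.succ) ∈ Ring.jacobson B := by
        intro i
        have := Ring.le_comap_jacobson (Ideal.Quotient.mk (Ideal.span {f 0})) (hf i.succ)
        exact this
      have h1 := ih B (fun i => Ideal.Quotient.mk (Ideal.span {f 0}) (f i.succ)) hfB hqB
      have h2 : (List.ofFn fun i : Fin c => Ideal.Quotient.mk (Ideal.span {f 0}) (f i.succ))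
          = (List.ofFn fun i : Fin c => f i.succ).map (algebraMap A B) := by
        rw [List.map_ofFn]
        rfl
      rw [h2, RingTheory.Sequence.isWeaklyRegular_map_algebraMap_iff] at h1
      have e : (QuotSMulTop (f 0) A) ≃ₗ[A] B :=
        Submodule.quotEquivOfEq _ _
          ((Submodule.ideal_span_singleton_smul (f 0) (⊤ : Submodule A A)).symm.trans (by simp))
      exact (e.isWeaklyRegular_congr _).mpr h1

end main

end Groth.Agent.Lib.Helper90.QuasiRegReg
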