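import Mathlib
import Groth.Agent.Lib.Helper81.FieldSmooth

/-!
# Coefficient fields of complete local rings of equal characteristic (helper90)

Built on helper81's `formallySmooth_of_perfectRing` / `formallySmooth_of_charZero`.
-/

set_option autoImplicit false
set_option linter.style.haveILetI false
universe u

namespace Groth.Agent.Lib.Helper90.CoeffField

open IsLocalRing

/-- every field is formally smooth over the prime subfield of any field of the same universe
mapping to it -/
theorem formallySmooth_bot {k₀ K : Type u} [Field k₀] [Field K] [Algebra (⊥ : Subfield k₀) K] :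
    Algebra.FormallySmooth (⊥ : Subfield k₀) K := by
  rcases CharP.exists' k₀ with h0 | ⟨p, hp, hpk⟩
  · haveI := h0
    haveI : CharZero (⊥ : Subfield k₀) :=
      (algebraMap (⊥ : Subfield k₀) k₀).charZero
    exact Groth.Agent.Lib.Helper81.FieldSmooth.formallySmooth_of_charZero
  · haveI := hp
    haveI := hpk
    letI : Algebra (ZMod p) k₀ := ZMod.algebra k₀ p
    have hbot : (⊥ : Subfield k₀) = (algebraMap (ZMod p) k₀).fieldRange :=
      Subfield.bot_eq_of_zMod_algebra p
    haveI : Finite (⊥ : Subfield k₀) := by
      rw [hbot]
      exact Set.finite_range _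
    haveI : CharP (⊥ : Subfield k₀) p :=
      RingHom.charP (algebraMap (⊥ : Subfield k₀) k₀) (algebraMap (⊥ : Subfield k₀) k₀).injective p
    haveI : PerfectRing (⊥ : Subfield k₀) p := PerfectRing.ofFiniteOfIsReduced p _
    exact Groth.Agent.Lib.Helper81.FieldSmooth.formallySmooth_of_perfectRing p

/-- a complete local `P`-algebra whose residue field is formally smooth over the field `P` has a
coefficient field containing `P` -/
theorem exists_section_of_formallySmooth {P R : Type u} [Field P] [CommRing R] [IsLocalRing R]
    [Algebra P R] [IsAdicComplete (maximalIdeal R) R]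
    [Algebra.FormallySmooth P (ResidueField R)] :
    ∃ σ : ResidueField R →ₐ[P] R, ∀ x : ResidueField R, residue R (σ x) = x := by
  obtain ⟨g, hg⟩ := Algebra.FormallySmooth.exists_mkₐ_comp_eq_of_isAdicComplete
    (R := P) (A := ResidueField R) (S := R) (I := maximalIdeal R)
    (AlgHom.id P (ResidueField R))
  refine ⟨g, fun x => ?_⟩
  exact congr($hg x)

/-- existence of coefficient fields for complete local rings containing a field (no Noetherian
hypothesis) -/
theorem exists_coeffField (R : Type u) [CommRing R] [IsLocalRing R]
    [IsAdicComplete (maximalIdeal R) R] (k₀ : Type u) [Field k₀] [Algebra k₀ R] :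
    ∃ σ : ResidueField R →+* R, ∀ x : ResidueField R, residue R (σ x) = x := by
  haveI : Algebra.FormallySmooth (⊥ : Subfield k₀) (ResidueField R) := formallySmooth_bot
  obtain ⟨g, hg⟩ := exists_section_of_formallySmooth (P := (⊥ : Subfield k₀)) (R := R)
  exact ⟨g.toRingHom, hg⟩

/-- existence of coefficient fields for complete local rings of prime characteristic -/
theorem exists_coeffField_of_charP (R : Type u) [CommRing R] [IsLocalRing R]
    [IsAdicComplete (maximalIdeal R) R] (p : ℕ) [Fact p.Prime] [CharP R p] :
    ∃ σ : ResidueField R →+* R, ∀ x : ResidueField R, residue R (σ x) = x := by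
  letI : Algebra (ULift.{u} (ZMod p)) R :=
    ((ZMod.castHom (dvd_refl p) R).comp (ULift.ringEquiv : ULift.{u} (ZMod p) ≃+* ZMod p).toRingHom).toAlgebra
  exact exists_coeffField R (ULift.{u} (ZMod p))

end Groth.Agent.Lib.Helper90.CoeffField
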