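import Mathlib
import Groth.Agent.Lib.Helper90.PSUniv
import Groth.Agent.Lib.Helper90.PSIdeal
import Groth.Agent.Lib.Helper90.PSSurj
import Groth.Agent.S4542
import Groth.Agent.S4537
import Groth.Agent.S2451
import Groth.Agent.S11741

set_option autoImplicit false
set_option linter.style.haveILetI false
universe u

namespace Groth.Agent.Lib.Helper90.SmoothRegular

open IsLocalRing MvPowerSeries Groth.Agent.Lib.Helper90

theorem isAdicComplete_of_pow_eq_bot {R : Type*} [CommRing R] (I : Ideal R) (N : ℕ)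
    (h : I ^ N = ⊥) : IsAdicComplete I R where
  haus' := by
    intro x hx
    have := hx N
    rw [h, SModEq.zero, Submodule.bot_smul] at this
    exact this
  prec' := by
    intro f hf
    refine ⟨f N, fun n => ?_⟩
    rcases le_total n N with hn | hn
    · exact hf hn
    · have := hf hn
      rw [h, Submodule.bot_smul, SModEq.sub_mem, Submodule.mem_bot, sub_eq_zero] at this
      rw [this]

set_option maxHeartbeats 1000000 in
/-- a complete Noetherian local `k`-algebra with separable residue field which is formally smooth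
over `k` for the adic topology is regular -/
theorem regular_of_smooth_complete {k A : Type u} [Field k] [CommRing A] [IsLocalRing A]
    [IsNoetherianRing A] [Algebra k A] [IsAdicComplete (maximalIdeal A) A]
    [Algebra.IsGeometricallyReduced k (ResidueField A)]
    (h : CAlgX.IsAdicFormallySmooth k A (maximalIdeal A)) : IsRegularLocalRing A := by
  classical
  set m := maximalIdeal A with hm
  haveI : Algebra.FormallySmooth k (ResidueField A) := Groth.Agent.S2451.result.mpr inferInstance
  have hm2 : m ^ 2 ≠ ⊤ := fun h2 =>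
    (Ideal.IsPrime.ne_top' : m ≠ ⊤) (top_le_iff.mp (h2 ▸ Ideal.pow_le_self two_ne_zero))
  haveI : Nontrivial (A ⧸ m ^ 2) := Ideal.Quotient.nontrivial_iff.mpr hm2
  haveI : IsLocalRing (A ⧸ m ^ 2) :=
    IsLocalRing.of_surjective' (Ideal.Quotient.mk (m ^ 2)) Ideal.Quotient.mk_surjective
  set m₂ := maximalIdeal (A ⧸ m ^ 2) with hm₂
  -- F1
  have F1 : ∀ a : A, Ideal.Quotient.mk (m ^ 2) a ∈ m₂ ↔ a ∈ m := by
    intro a
    constructor
    · intro ha
      by_contra hcon
      have hu : IsUnit a := by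
        by_contra hnu
        exact hcon ((IsLocalRing.mem_maximalIdeal a).mpr hnu)
      exact (IsLocalRing.mem_maximalIdeal _).mp ha (hu.map _)
    · intro ha
      rw [hm₂, IsLocalRing.mem_maximalIdeal, mem_nonunits_iff]
      intro hu
      have h0 : (Ideal.Quotient.mk (m ^ 2) a) ^ 2 = 0 := by
        rw [← map_pow, Ideal.Quotient.eq_zero_iff_mem]
        exact Ideal.pow_mem_pow ha 2
      have := hu.pow 2
      rw [h0] at this
      exact not_isUnit_zero this
  have hm₂map : m₂ = m.map (Ideal.Quotient.mk (m ^ 2)) := by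
    apply le_antisymm
    · intro y hy
      obtain ⟨a, rfl⟩ := Ideal.Quotient.mk_surjective y
      exact Ideal.mem_map_of_mem _ ((F1 a).mp hy)
    · rw [Ideal.map_le_iff_le_comap]
      intro a ha
      exact (F1 a).mpr ha
  have F2 : m₂ ^ 2 = ⊥ := by
    rw [hm₂map, ← Ideal.map_pow, Ideal.map_quotient_self]
  -- ρ
  let ρ : (A ⧸ m ^ 2) →ₐ[k] ResidueField A :=
    Ideal.Quotient.liftₐ (m ^ 2) (IsScalarTower.toAlgHom k A (ResidueField A))
      (fun a ha => (residue_eq_zero_iff a).mpr (Ideal.pow_le_self two_ne_zero ha))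
  have hρmk : ∀ a : A, ρ (Ideal.Quotient.mk (m ^ 2) a) = residue A a := fun a => rfl
  have hρsurj : Function.Surjective ρ := by
    intro x
    obtain ⟨a, rfl⟩ := residue_surjective x
    exact ⟨Ideal.Quotient.mk _ a, hρmk a⟩
  have F3 : ∀ y, ρ y = 0 ↔ y ∈ m₂ := by
    intro y
    obtain ⟨a, rfl⟩ := Ideal.Quotient.mk_surjective y
    rw [hρmk, residue_eq_zero_iff, F1]
  have hkerρ : RingHom.ker (ρ : (A ⧸ m ^ 2) →+* ResidueField A) = m₂ := by
    ext y
    exact F3 y
  have hnil : IsNilpotent (RingHom.ker (ρ : (A ⧸ m ^ 2) →+* ResidueField A)) := by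
    rw [hkerρ]
    exact ⟨2, F2⟩
  let s : ResidueField A →ₐ[k] (A ⧸ m ^ 2) :=
    Algebra.FormallySmooth.liftOfSurjective (AlgHom.id k (ResidueField A)) ρ hρsurj hnil
  have hs : ∀ x, ρ (s x) = x := fun x =>
    Algebra.FormallySmooth.liftOfSurjective_apply (AlgHom.id k (ResidueField A)) ρ hρsurj hnil x
  have hbij : Function.Bijective ((residue (A ⧸ m ^ 2)).comp s.toRingHom) := by
    refine ⟨RingHom.injective _, fun y => ?_⟩
    obtain ⟨a₂, rfl⟩ := residue_surjective y
    refine ⟨ρ a₂, ?_⟩
    change residue _ (s (ρ a₂)) = residue _ a₂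
    rw [← sub_eq_zero, ← map_sub, residue_eq_zero_iff, ← hm₂, ← F3, map_sub, hs, sub_self]
  haveI : IsAdicComplete m₂ (A ⧸ m ^ 2) := isAdicComplete_of_pow_eq_bot m₂ 2 F2
  obtain ⟨n, f, hfs, hfk, hfC, hfX, -⟩ :=
    PSSurj.exists_surjective_of_field (A ⧸ m ^ 2) (ResidueField A) s.toRingHom hbij
  set nB := maximalIdeal (MvPowerSeries (Fin n) (ResidueField A)) with hnB
  have hnBspan : nB = Ideal.span (Set.range X) := PSIdeal.maximalIdeal_eq_span_X
  have hfmap : nB.map f ≤ m₂ := by
    rw [hnBspan, Ideal.map_span, Ideal.span_le]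
    rintro _ ⟨_, ⟨i, rfl⟩, rfl⟩
    exact hfX i
  have hker : RingHom.ker f = nB ^ 2 := by
    apply le_antisymm hfk
    rw [RingHom.ker_eq_comap_bot, ← Ideal.map_le_iff_le_comap, Ideal.map_pow, ← F2]
    exact Ideal.pow_right_mono hfmap 2
  -- F5
  have F5 : ∀ b : MvPowerSeries (Fin n) (ResidueField A), ρ (f b) = constantCoeff b := by
    intro b
    have h1 : b - C (constantCoeff b) ∈ nB := by
      rw [hnBspan, PSIdeal.mem_span_X_iff]
      simp
    have h2 : f (b - C (constantCoeff b)) ∈ m₂ := hfmap (Ideal.mem_map_of_mem f h1)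
    have h3 := (F3 _).mpr h2
    rw [map_sub, map_sub, sub_eq_zero, hfC] at h3
    rw [h3]
    exact hs _
  have F4 : ∀ b : MvPowerSeries (Fin n) (ResidueField A), f b ∈ m₂ → b ∈ nB := by
    intro b hb
    rw [hnBspan, PSIdeal.mem_span_X_iff, ← F5, F3]
    exact hb
  -- algebra hom
  let fₐ : MvPowerSeries (Fin n) (ResidueField A) →ₐ[k] (A ⧸ m ^ 2) :=
    { f with
      commutes' := by
        intro c
        change f (algebraMap k (MvPowerSeries (Fin n) (ResidueField A)) c) = _
        rw [MvPowerSeries.algebraMap_apply]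
        have : f (C (algebraMap k (ResidueField A) c)) = s (algebraMap k (ResidueField A) c) := hfC _
        rw [this, s.commutes] }
  have hfₐ : ∀ b, fₐ b = f b := fun b => rfl
  have hfₐs : Function.Surjective fₐ := hfs
  have hker' : nB ^ 2 = RingHom.ker fₐ := hker.symm
  let ε : (MvPowerSeries (Fin n) (ResidueField A) ⧸ nB ^ 2) ≃ₐ[k] (A ⧸ m ^ 2) :=
    (Ideal.quotientEquivAlgOfEq k hker').trans (Ideal.quotientKerAlgEquivOfSurjective hfₐs)
  have hε : ∀ b, ε (Ideal.Quotient.mk (nB ^ 2) b) = f b := fun b => rfl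
  let u : A →ₐ[k] (MvPowerSeries (Fin n) (ResidueField A) ⧸ nB ^ 2) :=
    (ε.symm : (A ⧸ m ^ 2) →ₐ[k] _).comp (Ideal.Quotient.mkₐ k (m ^ 2))
  have hεu : ∀ a, ε (u a) = Ideal.Quotient.mk (m ^ 2) a := by
    intro a
    change ε (ε.symm _) = _
    rw [AlgEquiv.apply_symm_apply]
    rfl
  have hu : ∀ a ∈ m, u a ∈ nB.map (Ideal.Quotient.mk (nB ^ 2)) := by
    intro a ha
    obtain ⟨b, hb⟩ := Ideal.Quotient.mk_surjective (u a)
    rw [← hb]
    apply Ideal.mem_map_of_mem
    apply F4
    rw [← hε, hb, hεu]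
    exact (F1 a).mpr ha
  -- apply the lifting theorem
  have hB := (Groth.Agent.S4537.result (maximalIdeal A)).mp h
  haveI : IsAdicComplete nB (MvPowerSeries (Fin n) (ResidueField A)) := by
    rw [hnBspan]
    infer_instance
  haveI : IsHausdorff (nB.map (Ideal.Quotient.mk (nB ^ 2)))
      (MvPowerSeries (Fin n) (ResidueField A) ⧸ nB ^ 2) := by
    refine ⟨fun x hx => ?_⟩
    have := hx 2
    rw [← Ideal.map_pow, Ideal.map_quotient_self, SModEq.zero, Submodule.bot_smul] at this
    exact this
  obtain ⟨v, -, hv⟩ := Groth.Agent.S4542.result (A := k) (B := A)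
    (C := MvPowerSeries (Fin n) (ResidueField A)) _ m nB hB ⟨1, by rw [pow_one, Ideal.map_bot]; exact bot_le⟩ (nB ^ 2)
    ⟨1, by rw [pow_one]; exact Ideal.pow_le_self two_ne_zero⟩ u
    ⟨1, by
      rw [pow_one, Ideal.map_le_iff_le_comap]
      intro a ha
      exact hu a ha⟩
  have V1 : ∀ a, f (v a) = Ideal.Quotient.mk (m ^ 2) a := by
    intro a
    rw [← hε, ← hεu]
    congr 1
    exact congr($hv a)
  have V2 : ∀ a, constantCoeff (v a) = residue A a := by
    intro a
    rw [← F5, V1, hρmk]
  have V3 : ∀ a ∈ m, v a ∈ nB := by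
    intro a ha
    rw [hnBspan, PSIdeal.mem_span_X_iff, V2, residue_eq_zero_iff]
    exact ha
  -- lifts of the variables
  choose a₀ ha₀ using fun i : Fin n => Ideal.Quotient.mk_surjective (f (X i))
  have ha₀m : ∀ i, a₀ i ∈ m := fun i => (F1 _).mp (by rw [ha₀]; exact hfX i)
  have hXv : ∀ i, X i - v (a₀ i) ∈ nB ^ 2 := by
    intro i
    rw [← hker, RingHom.mem_ker, map_sub, V1, ha₀, sub_self]
  -- surjectivity of v
  have hmapv : m.map v.toRingHom ≤ nB := by
    rw [Ideal.map_le_iff_le_comap]
    intro a ha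
    exact V3 a ha
  have hvsurj : Function.Surjective v := by
    have := PSUniv.surjective_of_complete v.toRingHom m nB ?_ ?_ hmapv
    · exact this
    · intro b
      obtain ⟨a, ha⟩ := residue_surjective (constantCoeff b)
      refine ⟨a, ?_⟩
      change b - v a ∈ nB
      rw [hnBspan, PSIdeal.mem_span_X_iff, map_sub, V2, ha, sub_self]
    · have hle : nB ≤ m.map v.toRingHom ⊔ nB • nB := by
        rw [hnBspan, Ideal.span_le]
        rintro _ ⟨i, rfl⟩
        have : X i = v (a₀ i) + (X i - v (a₀ i)) := by ring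
        rw [this]
        refine Ideal.add_mem _ (Ideal.mem_sup_left (Ideal.mem_map_of_mem _ (ha₀m i)))
          (Ideal.mem_sup_right ?_)
        rw [← hnBspan, smul_eq_mul, ← pow_two]
        exact hXv i
      exact Submodule.le_of_le_smul_of_le_jacobson_bot (IsNoetherian.noetherian nB)
        (IsLocalRing.maximalIdeal_le_jacobson _) hle
  -- dimension
  have hdim : (n : WithBot ℕ∞) ≤ ringKrullDim A := by
    rw [← Groth.Agent.S11741.ringKrullDim_mvPowerSeries (ResidueField A) n]
    exact ringKrullDim_le_of_surjective v.toRingHom hvsurj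
  -- generators
  have hmspan : m = Ideal.span (Set.range a₀) := by
    apply le_antisymm
    · have hle : m ≤ Ideal.span (Set.range a₀) ⊔ m • m := by
        intro a ha
        have hb := V3 a ha
        rw [hnBspan] at hb
        obtain ⟨b, hb⟩ := (Ideal.mem_span_range_iff_exists_fun).mp hb
        choose c hc using fun i => hvsurj (b i)
        have h1 : a - ∑ i, c i * a₀ i ∈ m ^ 2 := by
          rw [← Ideal.Quotient.eq_zero_iff_mem, ← V1, ← RingHom.mem_ker, hker, map_sub, ← hb, map_sum,
            ← Finset.sum_sub_distrib]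
          refine Ideal.sum_mem _ (fun i _ => ?_)
          rw [map_mul, hc, ← mul_sub]
          exact Ideal.mul_mem_left _ _ (hXv i)
        have : a = ∑ i, c i * a₀ i + (a - ∑ i, c i * a₀ i) := by ring
        rw [this]
        refine Ideal.add_mem _ (Ideal.mem_sup_left (Ideal.sum_mem _ (fun i _ =>
          Ideal.mul_mem_left _ _ (Ideal.subset_span ⟨i, rfl⟩)))) (Ideal.mem_sup_right ?_)
        rw [smul_eq_mul, ← pow_two]
        exact h1
      exact Submodule.le_of_le_smul_of_le_jacobson_bot (IsNoetherian.noetherian m)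
        (IsLocalRing.maximalIdeal_le_jacobson _) hle
    · rw [Ideal.span_le]
      rintro _ ⟨i, rfl⟩
      exact ha₀m i
  apply IsRegularLocalRing.of_spanFinrank_maximalIdeal_le
  refine le_trans ?_ hdim
  have h1 : (Ideal.span (Set.range a₀)).spanFinrank ≤ (Set.range a₀).ncard :=
    Submodule.spanFinrank_span_le_ncard_of_finite (Set.finite_range _)
  have h2 : (Set.range a₀).ncard ≤ n := by
    have := Set.ncard_image_le (f := a₀) (s := Set.univ) Set.finite_univ
    rw [Set.image_univ] at this
    simpa using this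
  rw [← hm, hmspan]
  exact_mod_cast h1.trans h2

end Groth.Agent.Lib.Helper90.SmoothRegular
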