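import Mathlib
import Groth.Agent.Lib.Helper90.SmoothRegular
import Groth.Agent.Lib.Helper29.AdicLocal
import Groth.Agent.S9318
import Groth.Agent.S0543
import Groth.Agent.S2452
import Groth.Agent.S9443
import Groth.Agent.S4533
import Groth.Agent.S4534

set_option autoImplicit false
set_option linter.style.haveILetI false
universe u

namespace Groth.Agent.Lib.Helper90.SmoothRegular

open IsLocalRing MvPowerSeries Groth.Agent.Lib.Helper90

section completion
variable {k A : Type u} [Field k] [CommRing A] [IsLocalRing A] [IsNoetherianRing A] [Algebra k A]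

/-- the residue field of the completion, as a `k`-algebra -/
noncomputable def residueEquiv :
    ResidueField A ≃ₐ[k] ResidueField (AdicCompletion (maximalIdeal A) A) :=
  AlgEquiv.ofBijective
    { ResidueField.map (algebraMap A (AdicCompletion (maximalIdeal A) A)) with
      commutes' := by
        intro c
        change ResidueField.map (algebraMap A (AdicCompletion (maximalIdeal A) A))
          (residue A (algebraMap k A c)) = residue _ (algebraMap k _ c)
        rw [ResidueField.map_residue]
        rfl }
    (AdicCompletion.residueField_map_bijective A)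

theorem geomRed_completion [Algebra.IsGeometricallyReduced k (ResidueField A)] :
    Algebra.IsGeometricallyReduced k (ResidueField (AdicCompletion (maximalIdeal A) A)) :=
  Algebra.IsGeometricallyReduced.of_injective (residueEquiv (k := k) (A := A)).symm.toAlgHom
    (residueEquiv (k := k) (A := A)).symm.injective

/-- **formally smooth ⟹ regular** (separable residue field) -/
theorem regular_of_smooth [Algebra.IsGeometricallyReduced k (ResidueField A)]
    (h : CAlgX.IsAdicFormallySmooth k A (maximalIdeal A)) : IsRegularLocalRing A := by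
  have h' := (Groth.Agent.S9318.result (R := k) (maximalIdeal A)
    (IsNoetherian.noetherian _)).mp h
  rw [← AdicCompletion.maximalIdeal_eq_map] at h'
  haveI := Groth.Agent.S0543.result A (maximalIdeal A)
  haveI := geomRed_completion (k := k) (A := A)
  have hreg := regular_of_smooth_complete h'
  exact ((Groth.Agent.Lib.Helper29.ringKrullDim_adicCompletion_eq_and_isRegularLocalRing_iff A
    (maximalIdeal A) Ideal.IsPrime.ne_top').2).mpr hreg

end completion

section powerSeries
variable {k K : Type u} [Field k] [Field K] [Algebra k K]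

theorem isFormallySmoothAdic_of_formallySmooth [Algebra.FormallySmooth k K] :
    EGA41.IsFormallySmoothAdic k ⊥ K ⊥ := by
  intro C _ _ J hJ _ u _
  exact Algebra.FormallySmooth.exists_lift J hJ u

theorem smooth_mvPowerSeries [Algebra.FormallySmooth k K] (d : ℕ) :
    CAlgX.IsAdicFormallySmooth k (MvPowerSeries (Fin d) K)
      (maximalIdeal (MvPowerSeries (Fin d) K)) := by
  rw [Groth.Agent.S4537.result]
  have h1 := isFormallySmoothAdic_of_formallySmooth (k := k) (K := K)
  have h2 := Groth.Agent.S4533.result K ⊥ d
  have hideal : ((⊥ : Ideal K).map (C : K →+* MvPowerSeries (Fin d) K) ⊔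
      RingHom.ker (constantCoeff : MvPowerSeries (Fin d) K →+* K)) =
      maximalIdeal (MvPowerSeries (Fin d) K) := by
    rw [Ideal.map_bot, bot_sup_eq, PSIdeal.maximalIdeal_eq_span_X]
    ext f
    rw [RingHom.mem_ker, PSIdeal.mem_span_X_iff]
  rw [hideal] at h2
  exact Groth.Agent.S4534.result (⊥ : Ideal k) (⊥ : Ideal K) _ ⟨1, by simp⟩ ⟨1, by simp⟩ h1 h2

end powerSeries

theorem isAdicFormallySmooth_of_algEquiv {R S S' : Type u} [CommRing R] [CommRing S] [CommRing S']
    [Algebra R S] [Algebra R S'] (e : S ≃ₐ[R] S') (𝔫 : Ideal S) (𝔫' : Ideal S')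
    (h𝔫 : ∀ x ∈ 𝔫, e x ∈ 𝔫') (h : CAlgX.IsAdicFormallySmooth R S 𝔫) :
    CAlgX.IsAdicFormallySmooth R S' 𝔫' := by
  intro A _ _ J hJ ψ hψ
  obtain ⟨k, hk⟩ := hψ
  have hmap : ∀ x ∈ 𝔫 ^ k, e x ∈ 𝔫' ^ k := by
    intro x hx
    have h1 : (𝔫 ^ k).map (e : S →+* S') ≤ 𝔫' ^ k := by
      rw [Ideal.map_pow]
      apply Ideal.pow_right_mono
      rw [Ideal.map_le_iff_le_comap]
      intro y hy
      exact h𝔫 y hy
    exact h1 (Ideal.mem_map_of_mem _ hx)
  obtain ⟨χ, hχ⟩ := h A J hJ (ψ.comp e.toAlgHom) ⟨k, fun x hx => hk _ (hmap x hx)⟩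
  refine ⟨χ.comp e.symm.toAlgHom, ?_⟩
  ext x
  have := DFunLike.congr_fun hχ (e.symm x)
  simpa using this

section regular
variable {k A : Type u} [Field k] [CommRing A] [IsRegularLocalRing A] [Algebra k A]
  [Algebra.IsGeometricallyReduced k (ResidueField A)]

theorem exists_algEquiv_of_regular_complete [IsAdicComplete (maximalIdeal A) A] :
    ∃ n : ℕ, Nonempty (A ≃ₐ[k] MvPowerSeries (Fin n) (ResidueField A)) := by
  obtain ⟨σ, hσ⟩ := Groth.Agent.S2452.result (k := k) (A := A)
  letI : Algebra (ResidueField A) A := σ.toRingHom.toAlgebra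
  haveI : IsScalarTower k (ResidueField A) A :=
    IsScalarTower.of_algebraMap_eq (fun c => (σ.commutes c).symm)
  obtain ⟨d, ⟨e⟩⟩ := Groth.Agent.S9443.Aux.main A (ResidueField A) (by
    constructor
    · exact RingHom.injective _
    · intro y
      exact ⟨y, hσ y⟩)
  exact ⟨d, ⟨e.restrictScalars k⟩⟩

theorem smooth_of_regular_complete [IsAdicComplete (maximalIdeal A) A] :
    CAlgX.IsAdicFormallySmooth k A (maximalIdeal A) := by
  obtain ⟨n, ⟨e⟩⟩ := exists_algEquiv_of_regular_complete (k := k) (A := A)
  haveI : Algebra.FormallySmooth k (ResidueField A) := Groth.Agent.S2451.result.mpr inferInstance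
  refine isAdicFormallySmooth_of_algEquiv e.symm _ _ (fun x hx => ?_) (smooth_mvPowerSeries n)
  rw [mem_maximalIdeal, mem_nonunits_iff] at hx ⊢
  intro hu
  apply hx
  have := hu.map e
  simpa using this

/-- **regular ⟹ formally smooth** (separable residue field) -/
theorem smooth_of_regular : CAlgX.IsAdicFormallySmooth k A (maximalIdeal A) := by
  have hreg := ((Groth.Agent.Lib.Helper29.ringKrullDim_adicCompletion_eq_and_isRegularLocalRing_iff A
    (maximalIdeal A) Ideal.IsPrime.ne_top').2).mp inferInstance
  haveI := hreg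
  haveI := geomRed_completion (k := k) (A := A)
  have h' := smooth_of_regular_complete (k := k) (A := AdicCompletion (maximalIdeal A) A)
  rw [AdicCompletion.maximalIdeal_eq_map] at h'
  exact (Groth.Agent.S9318.result (R := k) (maximalIdeal A) (IsNoetherian.noetherian _)).mpr h'

end regular

end Groth.Agent.Lib.Helper90.SmoothRegular
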