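import Mathlib
import Groth.Agent.Lib.Helper90.SmoothRegular2
import Groth.Agent.Lib.Helper90.CoeffField
import Groth.Agent.Lib.Helper73.RegularRing
import Groth.Agent.Lib.Helper85.RegularLocal
import Groth.Agent.Lib.Helper50.GeomReduced
import Groth.Agent.S2453

set_option autoImplicit false
set_option linter.style.haveILetI false
universe u

namespace Groth.Agent.Lib.Helper90.SmoothRegular

open IsLocalRing TensorProduct Groth.Agent.Lib.Helper90

section general
variable {k A : Type u} [Field k] [CommRing A] [IsLocalRing A] [IsNoetherianRing A] [Algebra k A]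

omit [IsNoetherianRing A] in
/-- formal smoothness over `k` implies formal smoothness over the prime field -/
theorem smooth_over_primeField (h : CAlgX.IsAdicFormallySmooth k A (maximalIdeal A)) :
    CAlgX.IsAdicFormallySmooth (⊥ : Subfield k) A (maximalIdeal A) := by
  haveI : Algebra.FormallySmooth (⊥ : Subfield k) k := CoeffField.formallySmooth_bot
  rw [Groth.Agent.S4537.result] at h ⊢
  have h1 := isFormallySmoothAdic_of_formallySmooth (k := (⊥ : Subfield k)) (K := k)
  exact Groth.Agent.S4534.result (⊥ : Ideal (⊥ : Subfield k)) (⊥ : Ideal k) _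
    ⟨1, by simp⟩ ⟨1, by simp⟩ h1 h

/-- **formally smooth ⟹ regular**, no separability assumption -/
theorem regular_of_smooth_general (h : CAlgX.IsAdicFormallySmooth k A (maximalIdeal A)) :
    IsRegularLocalRing A := by
  haveI : Algebra.FormallySmooth (⊥ : Subfield k) (ResidueField A) := CoeffField.formallySmooth_bot
  haveI : Algebra.IsGeometricallyReduced (⊥ : Subfield k) (ResidueField A) :=
    Groth.Agent.S2451.result.mp inferInstance
  exact regular_of_smooth (smooth_over_primeField h)

end general

/-- localization: if `B` is formally smooth over `R` for the `I`-adic topology and `I ≤ n`, then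
`B_n` is formally smooth over `R` for its maximal-adic topology. -/
theorem isAdicFormallySmooth_localization {R B : Type u} [CommRing R] [CommRing B] [Algebra R B]
    (I n : Ideal B) [n.IsPrime] (hI : I ≤ n) (h : CAlgX.IsAdicFormallySmooth R B I) :
    CAlgX.IsAdicFormallySmooth R (Localization.AtPrime n)
      (maximalIdeal (Localization.AtPrime n)) := by
  intro C _ _ J hJ ψ hψ
  obtain ⟨r, hr⟩ := hψ
  have hkill : ∀ x ∈ I ^ r, (ψ.comp (IsScalarTower.toAlgHom R B (Localization.AtPrime n))) x = 0 := by
    intro x hx
    apply hr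
    have h1 : (I ^ r).map (algebraMap B (Localization.AtPrime n)) ≤
        maximalIdeal (Localization.AtPrime n) ^ r := by
      rw [Ideal.map_pow]
      apply Ideal.pow_right_mono
      rw [← Localization.AtPrime.map_eq_maximalIdeal]
      exact Ideal.map_mono hI
    exact h1 (Ideal.mem_map_of_mem _ hx)
  obtain ⟨χ, hχ⟩ := h C J hJ (ψ.comp (IsScalarTower.toAlgHom R B (Localization.AtPrime n)))
    ⟨r, hkill⟩
  have hunit : ∀ y : n.primeCompl, IsUnit (χ y) := by
    intro y
    rw [← IsNilpotent.isUnit_quotient_mk_iff (I := J) ⟨2, hJ⟩]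
    have h2 := DFunLike.congr_fun hχ (y : B)
    have h3 : Ideal.Quotient.mk J (χ y) = ψ (algebraMap B (Localization.AtPrime n) y) := h2
    rw [h3]
    exact (IsLocalization.map_units (Localization.AtPrime n) y).map ψ
  refine ⟨IsLocalization.liftAlgHom (M := n.primeCompl) (f := χ) hunit, ?_⟩
  apply IsLocalization.algHom_ext n.primeCompl
  ext x
  have h2 := DFunLike.congr_fun hχ x
  have h4 : (Algebra.algHom R B (Localization.AtPrime n)) x =
      algebraMap B (Localization.AtPrime n) x := rfl
  simp only [AlgHom.coe_comp, Function.comp_apply, Ideal.Quotient.mkₐ_eq_mk, h4,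
    IsLocalization.coe_liftAlgHom, IsLocalization.lift_eq]
  exact h2

/-- base change of adic formal smoothness -/
theorem isAdicFormallySmooth_baseChange {k k' A : Type u} [CommRing k] [CommRing k'] [CommRing A]
    [Algebra k k'] [Algebra k A] (I : Ideal A) (h : CAlgX.IsAdicFormallySmooth k A I) :
    CAlgX.IsAdicFormallySmooth k' (k' ⊗[k] A)
      (I.map (Algebra.TensorProduct.includeRight : A →ₐ[k] k' ⊗[k] A)) := by
  intro C _ _ J hJ ψ hψ
  obtain ⟨r, hr⟩ := hψ
  letI : Algebra k C := Algebra.compHom C (algebraMap k k')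
  haveI : IsScalarTower k k' C := IsScalarTower.of_algebraMap_eq (fun x => rfl)
  let ψ₁ : A →ₐ[k] C ⧸ J := (ψ.restrictScalars k).comp Algebra.TensorProduct.includeRight
  have hkill : ∀ x ∈ I ^ r, ψ₁ x = 0 := by
    intro x hx
    apply hr
    rw [← Ideal.map_pow]
    exact Ideal.mem_map_of_mem _ hx
  obtain ⟨χ₁, hχ₁⟩ := h C J hJ ψ₁ ⟨r, hkill⟩
  refine ⟨Algebra.TensorProduct.lift (Algebra.ofId k' C) χ₁ (fun _ _ => Commute.all _ _), ?_⟩
  apply Algebra.TensorProduct.ext
  · ext
  · ext x
    have h2 := DFunLike.congr_fun hχ₁ x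
    have h3 : ψ₁ x = ψ (1 ⊗ₜ[k] x) := rfl
    rw [h3] at h2
    simpa using h2

theorem tensor_finite_facts {k k' A : Type u} [Field k] [Field k'] [Algebra k k'] [Module.Finite k k']
    [CommRing A] [IsLocalRing A] [IsNoetherianRing A] [Algebra k A] :
    IsNoetherianRing (k' ⊗[k] A) ∧ ∀ n : Ideal (k' ⊗[k] A), n.IsMaximal →
      (maximalIdeal A).map (Algebra.TensorProduct.includeRight : A →ₐ[k] k' ⊗[k] A) ≤ n := by
  letI : Algebra A (k' ⊗[k] A) := Algebra.TensorProduct.rightAlgebra
  haveI : Module.Finite A (k' ⊗[k] A) :=
    Module.Finite.equiv (Algebra.TensorProduct.commRight k A k').toLinearEquiv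
  refine ⟨IsNoetherianRing.of_finite A (k' ⊗[k] A), fun n hn => ?_⟩
  haveI := hn
  haveI : Algebra.IsIntegral A (k' ⊗[k] A) := Algebra.IsIntegral.of_finite A _
  have h1 := Ideal.isMaximal_comap_of_isIntegral_of_isMaximal (R := A) n
  have h2 := IsLocalRing.eq_maximalIdeal h1
  rw [Ideal.map_le_iff_le_comap]
  have h3 : n.comap (algebraMap A (k' ⊗[k] A)) =
      n.comap (Algebra.TensorProduct.includeRight : A →ₐ[k] k' ⊗[k] A) := rfl
  rw [← h3, h2]

section geom
variable {k A : Type u} [Field k] [CommRing A] [IsLocalRing A] [IsNoetherianRing A] [Algebra k A]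

/-- **formally smooth ⟹ geometrically regular** -/
theorem isRegularRing_tensor_of_smooth (h : CAlgX.IsAdicFormallySmooth k A (maximalIdeal A))
    (k' : Type u) [Field k'] [Algebra k k'] [Module.Finite k k'] :
    IsRegularRing (k' ⊗[k] A) := by
  obtain ⟨hnoeth, hmax⟩ := tensor_finite_facts (k := k) (k' := k') (A := A)
  haveI := hnoeth
  apply Groth.Agent.Lib.Helper73.RegularRing.isRegularRing_of_maximal
  intro n hn
  have h1 := isAdicFormallySmooth_baseChange (k' := k') _ h
  have h2 := isAdicFormallySmooth_localization _ n (hmax n hn) h1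
  exact regular_of_smooth_general h2

theorem isGeometricallyRegular_of_smooth (h : CAlgX.IsAdicFormallySmooth k A (maximalIdeal A)) :
    CAlg.IsGeometricallyRegular k A := by
  intro k' _ _ hfin
  haveI := hfin
  exact isRegularRing_tensor_of_smooth h k'

end geom

/-- a regular ring is reduced -/
theorem isReduced_of_isRegularRing (B : Type u) [CommRing B] [IsRegularRing B] : IsReduced B := by
  apply isReduced_ofLocalizationMaximal
  intro n hn
  haveI : IsDomain (Localization.AtPrime n) :=
    Groth.Agent.Lib.Helper85.isDomain_of_isRegularLocalRing _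
  infer_instance

/-- subfields of a formally smooth local algebra are separable over the base -/
theorem geomReduced_of_smooth {k A K : Type u} [Field k] [CommRing A]
    [IsLocalRing A] [IsNoetherianRing A] [Algebra k A]
    (h : CAlgX.IsAdicFormallySmooth k A (maximalIdeal A))
    [Field K] [Algebra k K] [Algebra K A] [IsScalarTower k K A] :
    Algebra.IsGeometricallyReduced k K := by
  apply Groth.Agent.Lib.Helper50.isGeometricallyReduced_of_forall_finite_isPurelyInseparable
  intro k' _ _ _ _
  haveI := isRegularRing_tensor_of_smooth h k'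
  haveI := isReduced_of_isRegularRing (k' ⊗[k] A)
  have hinj : Function.Injective
      (Algebra.TensorProduct.map (AlgHom.id k k') (IsScalarTower.toAlgHom k K A)) := by
    have := Module.Flat.lTensor_preserves_injective_linearMap (M := k')
      (IsScalarTower.toAlgHom k K A).toLinearMap (RingHom.injective _)
    exact this
  exact isReduced_of_injective _ hinj

/-- the completion of a regular local ring containing a field is a power series ring over the
residue field -/
theorem exists_ringEquiv_completion_of_regular {k A : Type u} [Field k] [CommRing A]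
    [IsRegularLocalRing A] [Algebra k A] :
    ∃ n : ℕ, Nonempty (AdicCompletion (maximalIdeal A) A ≃+*
      MvPowerSeries (Fin n) (ResidueField A)) := by
  haveI := ((Groth.Agent.Lib.Helper29.ringKrullDim_adicCompletion_eq_and_isRegularLocalRing_iff A
    (maximalIdeal A) Ideal.IsPrime.ne_top').2).mp inferInstance
  haveI := Groth.Agent.S0543.result A (maximalIdeal A)
  obtain ⟨σ, hσ⟩ := CoeffField.exists_coeffField (AdicCompletion (maximalIdeal A) A) k
  letI : Algebra (ResidueField (AdicCompletion (maximalIdeal A) A))
    (AdicCompletion (maximalIdeal A) A) := σ.toAlgebra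
  obtain ⟨d, ⟨e⟩⟩ := Groth.Agent.S9443.Aux.main (AdicCompletion (maximalIdeal A) A)
    (ResidueField (AdicCompletion (maximalIdeal A) A)) (by
    constructor
    · exact RingHom.injective _
    · intro y
      exact ⟨y, hσ y⟩)
  let ρ : ResidueField (AdicCompletion (maximalIdeal A) A) ≃+* ResidueField A :=
    (RingEquiv.ofBijective _ (AdicCompletion.residueField_map_bijective A)).symm
  exact ⟨d, ⟨e.toRingEquiv.trans (Groth.Agent.S2453.Aux.mapEquiv (Fin d) ρ)⟩⟩

end Groth.Agent.Lib.Helper90.SmoothRegular
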