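import Mathlib
import Groth.Agent.Lib.Helper90.SmoothRegular3

set_option autoImplicit false
set_option linter.style.haveILetI false
set_option linter.unusedTactic false
universe u

/-!
# Formal smoothness over a field and differentials

For a Noetherian local `k`-algebra `A` with residue field `K`: `A` is formally smooth over `k`
(adic topology) iff `A` is regular and `K ⊗ Ω_{k/ℤ} → K ⊗ Ω_{A/ℤ}` is injective.
-/

namespace Groth.Agent.Lib.Helper90.SmoothOmega

open IsLocalRing TensorProduct KaehlerDifferential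


section dual
variable {k A : Type u} [Field k] [CommRing A] [IsLocalRing A] [Algebra k A]

/-- the twisted structure map `k → K[ε]`, `c ↦ c̄ + D(c) ε` -/
noncomputable def twist (D : Derivation ℤ k (ResidueField A)) :
    k →+* TrivSqZeroExt (ResidueField A) (ResidueField A) where
  toFun c := TrivSqZeroExt.inl (algebraMap k (ResidueField A) c) + TrivSqZeroExt.inr (D c)
  map_one' := by
    ext <;> simp
  map_mul' a b := by
    ext
    · simp
    · simp only [TrivSqZeroExt.snd_add, TrivSqZeroExt.snd_inl, TrivSqZeroExt.snd_inr, zero_add,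
        TrivSqZeroExt.snd_mul, TrivSqZeroExt.fst_add, TrivSqZeroExt.fst_inl, TrivSqZeroExt.fst_inr,
        add_zero, Derivation.leibniz, MulOpposite.smul_eq_mul_unop, MulOpposite.unop_op,
        smul_eq_mul, Algebra.smul_def]
      ring
  map_zero' := by
    ext <;> simp
  map_add' a b := by
    ext
    · simp
    · simp

theorem twist_fst (D : Derivation ℤ k (ResidueField A)) (c : k) :
    (twist D c).fst = algebraMap k (ResidueField A) c := by
  simp [twist]

theorem twist_snd (D : Derivation ℤ k (ResidueField A)) (c : k) :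
    (twist D c).snd = D c := by
  simp [twist]

/-- formal smoothness lets derivations `k → K` extend to `A` -/
theorem exists_derivation_of_smooth (h : CAlgX.IsAdicFormallySmooth k A (maximalIdeal A))
    (D : Derivation ℤ k (ResidueField A)) :
    ∃ D' : Derivation ℤ A (ResidueField A), ∀ c : k, D' (algebraMap k A c) = D c := by
  letI : Algebra k (TrivSqZeroExt (ResidueField A) (ResidueField A)) := (twist D).toAlgebra
  let π : TrivSqZeroExt (ResidueField A) (ResidueField A) →+* ResidueField A :=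
    (TrivSqZeroExt.fstHom (ResidueField A) (ResidueField A) (ResidueField A)).toRingHom
  have hπ : Function.Surjective π := fun x => ⟨TrivSqZeroExt.inl x, by simp [π]⟩
  have hJ : (RingHom.ker π) ^ 2 = ⊥ := by
    rw [pow_two, eq_bot_iff, Ideal.mul_le]
    intro x hx y hy
    rw [RingHom.mem_ker] at hx hy
    have hx' : x.fst = 0 := hx
    have hy' : y.fst = 0 := hy
    rw [Ideal.mem_bot]
    ext <;> simp [hx', hy']
  let e := RingHom.quotientKerEquivOfSurjective hπ
  let ψ : A →ₐ[k] TrivSqZeroExt (ResidueField A) (ResidueField A) ⧸ RingHom.ker π :=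
    { toRingHom := e.symm.toRingHom.comp (residue A)
      commutes' := by
        intro c
        apply e.injective
        change e (e.symm (residue A (algebraMap k A c))) = e (Ideal.Quotient.mk _ (twist D c))
        rw [RingEquiv.apply_symm_apply, RingHom.quotientKerEquivOfSurjective_apply_mk]
        change _ = (twist D c).fst
        rw [twist_fst]
        rfl }
  have hψ : ∀ a : A, e (ψ a) = residue A a := by
    intro a
    change e (e.symm (residue A a)) = _
    rw [RingEquiv.apply_symm_apply]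
  obtain ⟨χ, hχ⟩ := h _ _ hJ ψ ⟨1, by
    intro x hx
    rw [pow_one] at hx
    apply e.injective
    rw [hψ, map_zero]
    exact (residue_eq_zero_iff x).mpr hx⟩
  have hfst : ∀ a : A, (χ a).fst = residue A a := by
    intro a
    have h1 := DFunLike.congr_fun hχ a
    have h2 : e (Ideal.Quotient.mk _ (χ a)) = e (ψ a) := congrArg e h1
    rw [hψ, RingHom.quotientKerEquivOfSurjective_apply_mk] at h2
    exact h2
  refine ⟨Derivation.mk' (AddMonoidHom.toIntLinearMap
    { toFun := fun a => (χ a).snd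
      map_zero' := by simp
      map_add' := by intro a b; simp }) ?_, ?_⟩
  · intro a b
    change (χ (a * b)).snd = a • (χ b).snd + b • (χ a).snd
    rw [map_mul, TrivSqZeroExt.snd_mul, hfst, hfst, Algebra.smul_def, Algebra.smul_def]
    simp only [smul_eq_mul, MulOpposite.smul_eq_mul_unop, MulOpposite.unop_op]
    rw [mul_comm ((χ a).snd)]
    rfl
  · intro c
    change (χ (algebraMap k A c)).snd = D c
    rw [χ.commutes]
    exact twist_snd D c

end dual



section DE
variable {k A : Type u} [Field k] [CommRing A] [IsLocalRing A] [Algebra k A]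

theorem injective_of_extend
    (hext : ∀ D : Derivation ℤ k (ResidueField A),
      ∃ D' : Derivation ℤ A (ResidueField A), ∀ c, D' (algebraMap k A c) = D c) :
    Function.Injective ((mapBaseChange ℤ k A).lTensor (ResidueField A)) := by
  rw [injective_iff_map_eq_zero]
  intro x hx
  rw [← Module.forall_dual_apply_eq_zero_iff (ResidueField A)]
  intro φ
  let lam : Ω[k⁄ℤ] →ₗ[k] ResidueField A :=
    (φ.restrictScalars k) ∘ₗ ((TensorProduct.mk A (ResidueField A) (A ⊗[k] Ω[k⁄ℤ]) 1).restrictScalars k) ∘ₗ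
      (TensorProduct.mk k A Ω[k⁄ℤ] 1)
  have hlam : ∀ ω, lam ω = φ (1 ⊗ₜ (1 ⊗ₜ ω)) := fun ω => rfl
  obtain ⟨D', hD'⟩ := hext (lam.compDer (KaehlerDifferential.D ℤ k))
  let μ := D'.liftKaehlerDifferential
  let φ' : ResidueField A ⊗[A] Ω[A⁄ℤ] →ₗ[A] ResidueField A :=
    (LinearMap.mul' A (ResidueField A)).comp (μ.lTensor _)
  have hμ : ∀ ω, lam ω = μ (KaehlerDifferential.map ℤ ℤ k A ω) := by
    intro ω
    have : lam = (μ.restrictScalars k).comp (KaehlerDifferential.map ℤ ℤ k A) := by
      apply Derivation.liftKaehlerDifferential_unique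
      ext c
      have e1 : (lam.compDer (KaehlerDifferential.D ℤ k)) c = lam (KaehlerDifferential.D ℤ k c) := rfl
      have e2 : (((μ.restrictScalars k).comp (KaehlerDifferential.map ℤ ℤ k A)).compDer
          (KaehlerDifferential.D ℤ k)) c =
          μ (KaehlerDifferential.map ℤ ℤ k A (KaehlerDifferential.D ℤ k c)) := rfl
      rw [e2, KaehlerDifferential.map_D, Derivation.liftKaehlerDifferential_comp_D, hD']
    rw [this]
    rfl
  have key : ∀ y, φ y = φ' ((mapBaseChange ℤ k A).lTensor _ y) := by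
    intro y
    induction y using TensorProduct.induction_on with
    | zero => simp
    | add y z hy hz => rw [map_add, map_add, map_add, hy, hz]
    | tmul κ y =>
      induction y using TensorProduct.induction_on with
      | zero => simp
      | add y z hy hz => rw [TensorProduct.tmul_add, map_add, map_add, map_add, hy, hz]
      | tmul a ω =>
        have h1 : κ ⊗ₜ[A] (a ⊗ₜ[k] ω) = (a • κ) • ((1 : ResidueField A) ⊗ₜ[A] ((1 : A) ⊗ₜ[k] ω)) := by
          rw [TensorProduct.smul_tmul', smul_eq_mul, mul_one]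
          have : a ⊗ₜ[k] ω = a • ((1 : A) ⊗ₜ[k] ω) := by
            rw [TensorProduct.smul_tmul', smul_eq_mul, mul_one]
          rw [this, TensorProduct.tmul_smul, TensorProduct.smul_tmul']
        have hL : φ (κ ⊗ₜ[A] (a ⊗ₜ[k] ω)) = (a • κ) * lam ω := by
          rw [h1, map_smul, ← hlam, smul_eq_mul]
        rw [hL, hμ]
        rw [LinearMap.lTensor_tmul, mapBaseChange_tmul]
        simp only [φ', LinearMap.coe_comp, Function.comp_apply, LinearMap.lTensor_tmul,
          LinearMap.mul'_apply, map_smul]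
        rw [Algebra.smul_def, Algebra.smul_def]
        ring
  rw [key, hx, map_zero]

end DE



section DE
variable {k A : Type u} [Field k] [CommRing A] [IsLocalRing A] [Algebra k A]

theorem extend_of_injective
    (hinj : Function.Injective ((mapBaseChange ℤ k A).lTensor (ResidueField A)))
    (V : Type u) [AddCommGroup V] [Module A V] [Module k V] [IsScalarTower k A V]
    (hV : ∀ a ∈ maximalIdeal A, ∀ v : V, a • v = 0) (δ : Derivation ℤ k V) :
    ∃ D' : Derivation ℤ A V, ∀ c, D' (algebraMap k A c) = δ c := by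
  have htors : Module.IsTorsionBySet A V (maximalIdeal A : Set A) := by
    intro v a
    exact hV a.1 a.2 v
  letI : Module (ResidueField A) V := htors.module
  haveI : IsScalarTower A (ResidueField A) V := htors.isScalarTower
  let ubar := (mapBaseChange ℤ k A).baseChange (ResidueField A)
  have hker : LinearMap.ker ubar = ⊥ := by
    rw [LinearMap.ker_eq_bot]
    have : (ubar : _ → _) = (mapBaseChange ℤ k A).lTensor (ResidueField A) :=
      LinearMap.baseChange_eq_ltensor _
    rw [this]
    exact hinj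
  obtain ⟨ρ, hρ⟩ := LinearMap.exists_leftInverse_of_injective ubar hker
  let g : A ⊗[k] Ω[k⁄ℤ] →ₗ[A] V := δ.liftKaehlerDifferential.liftBaseChange A
  let ghat : ResidueField A ⊗[A] (A ⊗[k] Ω[k⁄ℤ]) →ₗ[ResidueField A] V :=
    g.liftBaseChange (ResidueField A)
  let Λ : Ω[A⁄ℤ] →ₗ[A] V :=
    (ghat.restrictScalars A) ∘ₗ (ρ.restrictScalars A) ∘ₗ
      (TensorProduct.mk A (ResidueField A) Ω[A⁄ℤ] 1)
  refine ⟨Λ.compDer (KaehlerDifferential.D ℤ A), fun c => ?_⟩
  change ghat (ρ ((1 : ResidueField A) ⊗ₜ[A] KaehlerDifferential.D ℤ A (algebraMap k A c))) = δ c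
  have h1 : (1 : ResidueField A) ⊗ₜ[A] KaehlerDifferential.D ℤ A (algebraMap k A c) =
      ubar ((1 : ResidueField A) ⊗ₜ[A] ((1 : A) ⊗ₜ[k] KaehlerDifferential.D ℤ k c)) := by
    rw [LinearMap.baseChange_tmul, mapBaseChange_tmul, one_smul, KaehlerDifferential.map_D]
  rw [h1]
  have h2 := DFunLike.congr_fun hρ ((1 : ResidueField A) ⊗ₜ[A] ((1 : A) ⊗ₜ[k] KaehlerDifferential.D ℤ k c))
  rw [LinearMap.comp_apply] at h2
  rw [h2, LinearMap.id_apply]
  simp only [ghat, g, LinearMap.liftBaseChange_tmul, one_smul,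
    Derivation.liftKaehlerDifferential_comp_D]

end DE



/-- type synonym for an ideal, to carry a twisted module structure -/
def Tw {C : Type u} [CommRing C] (J : Ideal C) : Type u := ↥J

instance {C : Type u} [CommRing C] (J : Ideal C) : AddCommGroup (Tw J) :=
  inferInstanceAs (AddCommGroup ↥J)

/-- the underlying element -/
def Tw.val {C : Type u} [CommRing C] {J : Ideal C} (x : Tw J) : C := Subtype.val x

theorem Tw.val_mem {C : Type u} [CommRing C] {J : Ideal C} (x : Tw J) : x.val ∈ J := Subtype.property x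

theorem Tw.val_add {C : Type u} [CommRing C] {J : Ideal C} (x y : Tw J) :
    (x + y).val = x.val + y.val := rfl

theorem Tw.val_zero {C : Type u} [CommRing C] {J : Ideal C} : (0 : Tw J).val = 0 := rfl

theorem Tw.ext {C : Type u} [CommRing C] {J : Ideal C} {x y : Tw J} (h : x.val = y.val) : x = y :=
  Subtype.ext h

section R1
variable {k A : Type u} [Field k] [CommRing A] [IsLocalRing A] [Algebra k A]

theorem lift_step
    (hP : CAlgX.IsAdicFormallySmooth (⊥ : Subfield k) A (maximalIdeal A))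
    (hE : ∀ (V : Type u) [AddCommGroup V] [Module A V] [Module k V] [IsScalarTower k A V],
      (∀ a ∈ maximalIdeal A, ∀ v : V, a • v = 0) → ∀ δ : Derivation ℤ k V,
      ∃ D' : Derivation ℤ A V, ∀ c, D' (algebraMap k A c) = δ c)
    (C : Type u) [CommRing C] [Algebra k C] (J : Ideal C) (hJ : J ^ 2 = ⊥)
    (ψ : A →ₐ[k] C ⧸ J) (hψ : ∃ r : ℕ, ∀ x ∈ maximalIdeal A ^ r, ψ x = 0)
    (hkill : ∀ a ∈ maximalIdeal A, ∀ c : C, Ideal.Quotient.mk J c = ψ a → ∀ j ∈ J, c * j = 0) :
    ∃ χ : A →ₐ[k] C, (Ideal.Quotient.mkₐ k J).comp χ = ψ := by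
  obtain ⟨χ₀, hχ₀⟩ := hP C J hJ (ψ.restrictScalars (⊥ : Subfield k)) hψ
  have hχ₀' : ∀ a : A, Ideal.Quotient.mk J (χ₀ a) = ψ a := fun a => DFunLike.congr_fun hχ₀ a
  have hJJ : ∀ x ∈ J, ∀ y ∈ J, x * y = 0 := by
    intro x hx y hy
    have : x * y ∈ J ^ 2 := by
      rw [pow_two]
      exact Ideal.mul_mem_mul hx hy
    rw [hJ] at this
    exact this
  letI : Module A (Tw J) := Module.compHom (↥J) (χ₀ : A →+* C)
  letI : Module k (Tw J) := Module.compHom (Tw J) (algebraMap k A)
  haveI : IsScalarTower k A (Tw J) := ⟨fun c a v => by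
    change (c • a) • v = (algebraMap k A c) • (a • v)
    rw [Algebra.smul_def, mul_smul]⟩
  have hsmul : ∀ (a : A) (v : Tw J), (a • v).val = χ₀ a * v.val := fun a v => rfl
  have hksmul : ∀ (c : k) (v : Tw J), (c • v).val = χ₀ (algebraMap k A c) * v.val := fun c v => rfl
  -- the defect derivation
  have hmem : ∀ c : k, χ₀ (algebraMap k A c) - algebraMap k C c ∈ J := by
    intro c
    rw [← Ideal.Quotient.eq, hχ₀', AlgHom.commutes]
    rfl
  let δ₀ : k → Tw J := fun c => (⟨χ₀ (algebraMap k A c) - algebraMap k C c, hmem c⟩ : ↥J)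
  have hδ₀ : ∀ c, (δ₀ c).val = χ₀ (algebraMap k A c) - algebraMap k C c := fun c => rfl
  let δ : Derivation ℤ k (Tw J) := Derivation.mk' (AddMonoidHom.toIntLinearMap
    { toFun := δ₀
      map_zero' := by
        apply Tw.ext
        rw [hδ₀, Tw.val_zero, map_zero, map_zero, map_zero, sub_zero]
      map_add' := by
        intro a b
        apply Tw.ext
        rw [Tw.val_add, hδ₀, hδ₀, hδ₀, map_add, map_add, map_add]
        ring }) (by
    intro a b
    apply Tw.ext
    change (δ₀ (a * b)).val = (a • δ₀ b + b • δ₀ a).val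
    rw [Tw.val_add, hksmul, hksmul, hδ₀, hδ₀, hδ₀, map_mul, map_mul, map_mul]
    have h0 := hJJ _ (hmem a) _ (hmem b)
    linear_combination (-1 : C) * h0)
  have hδ : ∀ c, (δ c).val = χ₀ (algebraMap k A c) - algebraMap k C c := fun c => rfl
  obtain ⟨D', hD'⟩ := hE (Tw J) (by
    intro a ha v
    apply Tw.ext
    rw [hsmul, Tw.val_zero]
    exact hkill a ha (χ₀ a) (hχ₀' a) _ v.val_mem) δ
  refine ⟨{ toFun := fun a => χ₀ a - (D' a).val
            map_one' := by
              rw [map_one, D'.map_one_eq_zero, Tw.val_zero, sub_zero]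
            map_mul' := by
              intro a b
              rw [map_mul, D'.leibniz, Tw.val_add, hsmul, hsmul]
              have h0 := hJJ _ (D' a).val_mem _ (D' b).val_mem
              linear_combination (-1 : C) * h0
            map_zero' := by
              rw [map_zero, map_zero, Tw.val_zero, sub_zero]
            map_add' := by
              intro a b
              rw [map_add, map_add, Tw.val_add]
              ring
            commutes' := by
              intro c
              change χ₀ (algebraMap k A c) - (D' (algebraMap k A c)).val = _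
              rw [hD', hδ]
              ring }, ?_⟩
  ext a
  change Ideal.Quotient.mk J (χ₀ a - (D' a).val) = ψ a
  rw [map_sub, hχ₀', Ideal.Quotient.eq_zero_iff_mem.mpr (D' a).val_mem, sub_zero]

theorem lift_induction
    (hP : CAlgX.IsAdicFormallySmooth (⊥ : Subfield k) A (maximalIdeal A))
    (hE : ∀ (V : Type u) [AddCommGroup V] [Module A V] [Module k V] [IsScalarTower k A V],
      (∀ a ∈ maximalIdeal A, ∀ v : V, a • v = 0) → ∀ δ : Derivation ℤ k V,
      ∃ D' : Derivation ℤ A V, ∀ c, D' (algebraMap k A c) = δ c) :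
    ∀ (s : ℕ) (C C'' : Type u) [CommRing C] [CommRing C''] [Algebra k C] [Algebra k C'']
      (π : C →ₐ[k] C'') (_ : Function.Surjective π) (_ : (RingHom.ker π.toRingHom) ^ 2 = ⊥)
      (𝔐 : Ideal C) (_ : 𝔐 ^ s * RingHom.ker π.toRingHom = ⊥)
      (ψ : A →ₐ[k] C'') (_ : ∃ r : ℕ, ∀ x ∈ maximalIdeal A ^ r, ψ x = 0)
      (_ : ∀ a ∈ maximalIdeal A, ∀ c : C, π c = ψ a → c ∈ 𝔐),
      ∃ χ : A →ₐ[k] C, π.comp χ = ψ := by
  intro s
  induction s with
  | zero =>
    intro C C'' _ _ _ _ π hπ hker 𝔐 h𝔐 ψ hψ hm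
    rw [pow_zero, Ideal.one_eq_top, Ideal.top_mul] at h𝔐
    have hinj : Function.Injective π := by
      have := (RingHom.injective_iff_ker_eq_bot π.toRingHom).mpr h𝔐
      exact this
    let e := AlgEquiv.ofBijective π ⟨hinj, hπ⟩
    refine ⟨e.symm.toAlgHom.comp ψ, ?_⟩
    ext a
    change e (e.symm (ψ a)) = ψ a
    rw [AlgEquiv.apply_symm_apply]
  | succ s ih =>
    intro C C'' _ _ _ _ π hπ hker 𝔐 h𝔐 ψ hψ hm
    set K₀ := RingHom.ker π.toRingHom with hK₀
    have hK₀mem : ∀ x, x ∈ K₀ ↔ π x = 0 := fun x => RingHom.mem_ker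
    set J' : Ideal C := 𝔐 ^ s * K₀ with hJ'
    have hJ'le : J' ≤ K₀ := Ideal.mul_le_right
    let π₂ : C ⧸ J' →ₐ[k] C'' := Ideal.Quotient.liftₐ J' π (fun a ha => (hK₀mem a).mp (hJ'le ha))
    have hπ₂ : ∀ c : C, π₂ (Ideal.Quotient.mk J' c) = π c := fun c => rfl
    have hπ₂s : Function.Surjective π₂ := by
      intro y
      obtain ⟨c, rfl⟩ := hπ y
      exact ⟨Ideal.Quotient.mk J' c, hπ₂ c⟩
    have hker₂le : RingHom.ker π₂.toRingHom ≤ K₀.map (Ideal.Quotient.mk J') := by
      intro x hx
      obtain ⟨c, rfl⟩ := Ideal.Quotient.mk_surjective x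
      have : π c = 0 := by
        have := RingHom.mem_ker.mp hx
        exact this
      exact Ideal.mem_map_of_mem _ ((hK₀mem c).mpr this)
    have hker₂ : (RingHom.ker π₂.toRingHom) ^ 2 = ⊥ := by
      rw [eq_bot_iff]
      calc (RingHom.ker π₂.toRingHom) ^ 2 ≤ (K₀.map (Ideal.Quotient.mk J')) ^ 2 :=
            Ideal.pow_right_mono hker₂le 2
        _ = (K₀ ^ 2).map (Ideal.Quotient.mk J') := (Ideal.map_pow _ _ _).symm
        _ = ⊥ := by rw [hker, Ideal.map_bot]
    have h𝔐₂ : (𝔐.map (Ideal.Quotient.mk J')) ^ s * RingHom.ker π₂.toRingHom = ⊥ := by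
      rw [eq_bot_iff]
      calc (𝔐.map (Ideal.Quotient.mk J')) ^ s * RingHom.ker π₂.toRingHom
          ≤ (𝔐.map (Ideal.Quotient.mk J')) ^ s * K₀.map (Ideal.Quotient.mk J') :=
            Ideal.mul_mono_right hker₂le
        _ = (𝔐 ^ s * K₀).map (Ideal.Quotient.mk J') := by
            rw [Ideal.map_mul, Ideal.map_pow]
        _ = ⊥ := by rw [← hJ', Ideal.map_quotient_self]
    have hm₂ : ∀ a ∈ maximalIdeal A, ∀ c : C ⧸ J', π₂ c = ψ a →
        c ∈ 𝔐.map (Ideal.Quotient.mk J') := by
      intro a ha c hc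
      obtain ⟨c, rfl⟩ := Ideal.Quotient.mk_surjective c
      exact Ideal.mem_map_of_mem _ (hm a ha c hc)
    obtain ⟨ψbar, hψbar⟩ := ih (C ⧸ J') C'' π₂ hπ₂s hker₂ _ h𝔐₂ ψ hψ hm₂
    have hψbar' : ∀ a, π₂ (ψbar a) = ψ a := fun a => DFunLike.congr_fun hψbar a
    have hJ'2 : J' ^ 2 = ⊥ := by
      rw [eq_bot_iff, ← hker]
      exact Ideal.pow_right_mono hJ'le 2
    obtain ⟨r, hr⟩ := hψ
    have hψbar_kill : ∃ r' : ℕ, ∀ x ∈ maximalIdeal A ^ r', ψbar x = 0 := by
      refine ⟨r * 2, fun x hx => ?_⟩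
      have h1 : (maximalIdeal A ^ r).map ψbar.toRingHom ≤ RingHom.ker π₂.toRingHom := by
        rw [Ideal.map_le_iff_le_comap]
        intro y hy
        rw [Ideal.mem_comap, RingHom.mem_ker]
        change π₂ (ψbar y) = 0
        rw [hψbar', hr y hy]
      have h2 : (maximalIdeal A ^ (r * 2)).map ψbar.toRingHom ≤ ⊥ := by
        rw [pow_mul, Ideal.map_pow, ← hker₂]
        exact Ideal.pow_right_mono h1 2
      have := h2 (Ideal.mem_map_of_mem ψbar.toRingHom hx)
      exact this
    have hkill : ∀ a ∈ maximalIdeal A, ∀ c : C, Ideal.Quotient.mk J' c = ψbar a →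
        ∀ j ∈ J', c * j = 0 := by
      intro a ha c hc j hj
      have hc𝔐 : c ∈ 𝔐 := by
        apply hm a ha c
        rw [← hπ₂, hc, hψbar']
      have : c * j ∈ 𝔐 * J' := Ideal.mul_mem_mul hc𝔐 hj
      rw [hJ', ← mul_assoc, ← pow_succ', h𝔐] at this
      exact this
    obtain ⟨χ, hχ⟩ := lift_step hP hE C J' hJ'2 ψbar hψbar_kill hkill
    refine ⟨χ, ?_⟩
    ext a
    have h1 : Ideal.Quotient.mk J' (χ a) = ψbar a := DFunLike.congr_fun hχ a
    change π (χ a) = ψ a
    rw [← hπ₂, h1, hψbar']

end R1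

section final
variable {k A : Type u} [Field k] [CommRing A] [IsRegularLocalRing A] [Algebra k A]

/-- **regular + injectivity on differentials ⟹ formally smooth** -/
theorem smooth_of_regular_of_extend
    (hE : ∀ (V : Type u) [AddCommGroup V] [Module A V] [Module k V] [IsScalarTower k A V],
      (∀ a ∈ maximalIdeal A, ∀ v : V, a • v = 0) → ∀ δ : Derivation ℤ k V,
      ∃ D' : Derivation ℤ A V, ∀ c, D' (algebraMap k A c) = δ c) :
    CAlgX.IsAdicFormallySmooth k A (maximalIdeal A) := by
  haveI : Algebra.FormallySmooth (⊥ : Subfield k) (ResidueField A) :=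
    Groth.Agent.Lib.Helper90.CoeffField.formallySmooth_bot
  haveI : Algebra.IsGeometricallyReduced (⊥ : Subfield k) (ResidueField A) :=
    Groth.Agent.S2451.result.mp inferInstance
  have hP : CAlgX.IsAdicFormallySmooth (⊥ : Subfield k) A (maximalIdeal A) :=
    Groth.Agent.Lib.Helper90.SmoothRegular.smooth_of_regular
  intro C _ _ J hJ ψ hψ
  obtain ⟨r, hr⟩ := hψ
  set 𝔐 : Ideal C := ((maximalIdeal A).map ψ.toRingHom).comap (Ideal.Quotient.mk J) with h𝔐
  have hkerJ : RingHom.ker (Ideal.Quotient.mkₐ k J).toRingHom = J := Ideal.mk_ker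
  have h𝔐r : 𝔐 ^ r ≤ J := by
    have h1 : ((maximalIdeal A).map ψ.toRingHom) ^ r = ⊥ := by
      rw [← Ideal.map_pow, eq_bot_iff, Ideal.map_le_iff_le_comap]
      intro x hx
      rw [Ideal.mem_comap, Ideal.mem_bot]
      exact hr x hx
    calc 𝔐 ^ r ≤ (((maximalIdeal A).map ψ.toRingHom) ^ r).comap (Ideal.Quotient.mk J) :=
          Ideal.le_comap_pow _ _
      _ = J := by rw [h1, ← RingHom.ker_eq_comap_bot, Ideal.mk_ker]
  have h𝔐J : 𝔐 ^ r * RingHom.ker (Ideal.Quotient.mkₐ k J).toRingHom = ⊥ := by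
    rw [hkerJ, eq_bot_iff, ← hJ, pow_two]
    exact Ideal.mul_mono_left h𝔐r
  refine lift_induction hP hE r C (C ⧸ J) (Ideal.Quotient.mkₐ k J)
    (Ideal.Quotient.mkₐ_surjective k J) (by rw [hkerJ, hJ]) 𝔐 h𝔐J ψ ⟨r, hr⟩ ?_
  intro a ha c hc
  rw [h𝔐, Ideal.mem_comap]
  have : Ideal.Quotient.mk J c = ψ a := hc
  rw [this]
  exact Ideal.mem_map_of_mem ψ.toRingHom ha

end final


section main
variable {k A : Type u} [Field k] [CommRing A] [IsLocalRing A] [IsNoetherianRing A] [Algebra k A]

theorem smooth_iff :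
    CAlgX.IsAdicFormallySmooth k A (maximalIdeal A) ↔
      (IsRegularLocalRing A ∧
        Function.Injective ((KaehlerDifferential.mapBaseChange ℤ k A).lTensor (ResidueField A))) := by
  constructor
  · intro h
    exact ⟨Groth.Agent.Lib.Helper90.SmoothRegular.regular_of_smooth_general h,
      injective_of_extend (exists_derivation_of_smooth h)⟩
  · rintro ⟨hreg, hinj⟩
    haveI := hreg
    exact smooth_of_regular_of_extend (fun V _ _ _ _ hV δ => extend_of_injective hinj V hV δ)

end main

end Groth.Agent.Lib.Helper90.SmoothOmega
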