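import Mathlib
import Groth.Agent.S4573
import Groth.Agent.Lib.Helper90.SmoothRegular3
import Groth.Agent.Lib.Helper73.RegularLocalization

set_option autoImplicit false
set_option linter.style.haveILetI false
universe u

namespace Groth.Agent.Lib.Helper90.GeomRegBridge

open IsLocalRing TensorProduct Groth.Agent.Lib.Helper90

/-- the prime of `S` under a prime of `K ⊗[k] S` -/
abbrev under {k K S : Type u} [CommRing k] [CommRing K] [CommRing S] [Algebra k K] [Algebra k S]
    (Q : Ideal (K ⊗[k] S)) : Ideal S :=
  Q.comap (Algebra.TensorProduct.includeRight : S →ₐ[k] K ⊗[k] S)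

instance {k K S : Type u} [CommRing k] [CommRing K] [CommRing S] [Algebra k K] [Algebra k S]
    (Q : Ideal (K ⊗[k] S)) [Q.IsPrime] : (under Q).IsPrime :=
  Ideal.comap_isPrime _ _

/-- **Base change + localization of adic formal smoothness**: if `S_q` is formally smooth over `k`
for the maximal-adic topology (where `q` is the prime under `Q`), then `(K ⊗ S)_Q` is formally
smooth over `K` for the maximal-adic topology. -/
theorem isAdicFormallySmooth_tensor_atPrime {k K S : Type u} [CommRing k] [CommRing K] [CommRing S]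
    [Algebra k K] [Algebra k S] (Q : Ideal (K ⊗[k] S)) [Q.IsPrime]
    (h : CAlgX.IsAdicFormallySmooth k (Localization.AtPrime (under Q))
      (maximalIdeal (Localization.AtPrime (under Q)))) :
    CAlgX.IsAdicFormallySmooth K (Localization.AtPrime Q)
      (maximalIdeal (Localization.AtPrime Q)) := by
  intro C _ _ J hJ ψ hψ
  obtain ⟨r, hr⟩ := hψ
  set q := under Q with hq
  letI : Algebra k C := Algebra.compHom C (algebraMap k K)
  haveI : IsScalarTower k K C := IsScalarTower.of_algebraMap_eq (fun x => rfl)
  let ι : (K ⊗[k] S) →ₐ[K] Localization.AtPrime Q := IsScalarTower.toAlgHom K _ _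
  let φ₀ : S →ₐ[k] C ⧸ J :=
    ((ψ.comp ι).restrictScalars k).comp Algebra.TensorProduct.includeRight
  have hφ₀ : ∀ x : S, φ₀ x = ψ (algebraMap _ (Localization.AtPrime Q) ((1 : K) ⊗ₜ[k] x)) :=
    fun x => rfl
  have hunit : ∀ y : q.primeCompl, IsUnit (φ₀ y) := by
    intro y
    rw [hφ₀]
    have hy : ((1 : K) ⊗ₜ[k] (y : S)) ∈ Q.primeCompl := y.2
    exact (IsLocalization.map_units (Localization.AtPrime Q) ⟨_, hy⟩).map ψ
  let φ₁ : Localization.AtPrime q →ₐ[k] C ⧸ J :=
    IsLocalization.liftAlgHom (M := q.primeCompl) (f := φ₀) hunit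
  have hφ₁ : ∀ x : S, φ₁ (algebraMap S (Localization.AtPrime q) x) = φ₀ x := by
    intro x
    simp [φ₁]
  have hkill : ∀ x ∈ maximalIdeal (Localization.AtPrime q) ^ r, φ₁ x = 0 := by
    have h1 : maximalIdeal (Localization.AtPrime q) ^ r ≤ RingHom.ker φ₁.toRingHom := by
      rw [← Localization.AtPrime.map_eq_maximalIdeal, ← Ideal.map_pow, Ideal.map_le_iff_le_comap]
      intro x hx
      rw [Ideal.mem_comap, RingHom.mem_ker]
      change φ₁ (algebraMap S (Localization.AtPrime q) x) = 0
      rw [hφ₁, hφ₀]
      apply hr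
      rw [← Localization.AtPrime.map_eq_maximalIdeal, ← Ideal.map_pow]
      apply Ideal.mem_map_of_mem
      have h2 : (q ^ r).map (Algebra.TensorProduct.includeRight : S →ₐ[k] K ⊗[k] S) ≤ Q ^ r := by
        rw [Ideal.map_pow]
        apply Ideal.pow_right_mono
        exact Ideal.map_comap_le
      exact h2 (Ideal.mem_map_of_mem _ hx)
    intro x hx
    exact h1 hx
  obtain ⟨χ₁, hχ₁⟩ := h C J hJ φ₁ ⟨r, hkill⟩
  let χ₂ : (K ⊗[k] S) →ₐ[K] C :=
    Algebra.TensorProduct.lift (Algebra.ofId K C)
      (χ₁.comp (IsScalarTower.toAlgHom k S (Localization.AtPrime q))) (fun _ _ => Commute.all _ _)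
  have hχ₂ : (Ideal.Quotient.mkₐ K J).comp χ₂ = ψ.comp ι := by
    apply Algebra.TensorProduct.ext
    · ext
    · ext x
      have h2 := DFunLike.congr_fun hχ₁ (algebraMap S (Localization.AtPrime q) x)
      have h3 : ψ (ι ((1 : K) ⊗ₜ[k] x)) = φ₀ x := rfl
      simp only [AlgHom.coe_comp, Function.comp_apply, Ideal.Quotient.mkₐ_eq_mk] at h2
      rw [hφ₁, ← h3] at h2
      simpa [χ₂] using h2
  have hunit2 : ∀ y : Q.primeCompl, IsUnit (χ₂ y) := by
    intro y
    rw [← IsNilpotent.isUnit_quotient_mk_iff (I := J) ⟨2, hJ⟩]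
    have h2 := DFunLike.congr_fun hχ₂ (y : K ⊗[k] S)
    have h3 : Ideal.Quotient.mk J (χ₂ y) =
        ψ (algebraMap (K ⊗[k] S) (Localization.AtPrime Q) (y : K ⊗[k] S)) := h2
    rw [h3]
    exact (IsLocalization.map_units (Localization.AtPrime Q) y).map ψ
  refine ⟨IsLocalization.liftAlgHom (M := Q.primeCompl) (f := χ₂) hunit2, ?_⟩
  apply IsLocalization.algHom_ext Q.primeCompl
  refine AlgHom.ext fun x => ?_
  have h2 := DFunLike.congr_fun hχ₂ x
  simp only [AlgHom.coe_comp, Function.comp_apply, Ideal.Quotient.mkₐ_eq_mk] at h2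
  have h4 : (Algebra.algHom K (K ⊗[k] S) (Localization.AtPrime Q)) x =
      algebraMap (K ⊗[k] S) (Localization.AtPrime Q) x := rfl
  simp only [AlgHom.coe_comp, Function.comp_apply, Ideal.Quotient.mkₐ_eq_mk, h4,
    IsLocalization.coe_liftAlgHom, IsLocalization.lift_eq]
  exact h2


section bridge
variable {k S : Type u} [Field k] [CommRing S] [Algebra k S] [IsNoetherianRing S]

omit [IsNoetherianRing S] in
/-- `k' ⊗ S_q` is regular when `k' ⊗ S` is. -/
theorem isRegularRing_tensor_localization (k' : Type u) [CommRing k'] [Algebra k k']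
    (q : Ideal S) [q.IsPrime] (h : IsRegularRing (k' ⊗[k] S)) :
    IsRegularRing (k' ⊗[k] Localization.AtPrime q) := by
  letI : Algebra (k' ⊗[k] S) (k' ⊗[k] Localization.AtPrime q) :=
    (Algebra.TensorProduct.map (AlgHom.id k' k')
      (IsScalarTower.toAlgHom k S (Localization.AtPrime q))).toRingHom.toAlgebra
  haveI : IsScalarTower k' (k' ⊗[k] S) (k' ⊗[k] Localization.AtPrime q) :=
    IsScalarTower.of_algebraMap_eq (fun x => by
      change _ = (Algebra.TensorProduct.map (AlgHom.id k' k')
        (IsScalarTower.toAlgHom k S (Localization.AtPrime q))) (x ⊗ₜ 1)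
      simp [Algebra.TensorProduct.algebraMap_apply])
  have hloc := IsLocalization.tensorProduct_tensorProduct_right k k' q.primeCompl
    (Localization.AtPrime q) (by
      ext x
      change (Algebra.TensorProduct.map (AlgHom.id k' k')
        (IsScalarTower.toAlgHom k S (Localization.AtPrime q))) (1 ⊗ₜ x) = _
      simp)
  exact @Groth.Agent.Lib.Helper73.RegularRing.isRegularRing_of_isLocalization _ _ h _
    (k' ⊗[k] Localization.AtPrime q) _ _ hloc

/-- **Bridge, forward direction**: if `k' ⊗ S` is regular for all finite purely inseparable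
extensions `k'/k`, all local rings of `S` are formally smooth over `k`. -/
theorem isAdicFormallySmooth_atPrime_of_regular
    (H : ∀ (k' : Type u) [Field k'] [Algebra k k'], Module.Finite k k' → IsPurelyInseparable k k' →
      IsRegularRing (k' ⊗[k] S)) (q : Ideal S) [q.IsPrime] :
    CAlgX.IsAdicFormallySmooth k (Localization.AtPrime q)
      (maximalIdeal (Localization.AtPrime q)) := by
  obtain ⟨p, hp⟩ := ExpChar.exists k
  refine (Groth.Agent.S4573.result (k := k) (A := Localization.AtPrime q) p).mpr ?_
  intro k' _ _ hfin hpow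
  apply isRegularRing_tensor_localization
  apply H k' hfin
  rw [isPurelyInseparable_iff_pow_mem k p]
  intro x
  exact ⟨1, by simpa using hpow x⟩

theorem isAdicFormallySmooth_atPrime_of_isGeometricallyRegular
    (H : CAlg.IsGeometricallyRegular k S) (q : Ideal S) [q.IsPrime] :
    CAlgX.IsAdicFormallySmooth k (Localization.AtPrime q)
      (maximalIdeal (Localization.AtPrime q)) :=
  isAdicFormallySmooth_atPrime_of_regular (fun k' _ _ hfin _ => H k' hfin) q

omit [IsNoetherianRing S] in
/-- **Bridge, backward direction**: if all local rings of `S` are formally smooth over `k`, then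
`K ⊗ S` is regular for every field extension `K/k` for which it is Noetherian. -/
theorem isRegularRing_tensor_of_isAdicFormallySmooth
    (H : ∀ (q : Ideal S) [q.IsPrime], CAlgX.IsAdicFormallySmooth k (Localization.AtPrime q)
      (maximalIdeal (Localization.AtPrime q)))
    (K : Type u) [Field K] [Algebra k K] [IsNoetherianRing (K ⊗[k] S)] :
    IsRegularRing (K ⊗[k] S) := by
  rw [isRegularRing_iff]
  intro Q hQ
  exact SmoothRegular.regular_of_smooth_general (k := K)
    (isAdicFormallySmooth_tensor_atPrime Q (H (under Q)))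

omit [IsNoetherianRing S] in
theorem isNoetherianRing_tensor_of_finite [IsNoetherianRing S] (K : Type u) [Field K] [Algebra k K]
    [Module.Finite k K] : IsNoetherianRing (K ⊗[k] S) := by
  letI : Algebra S (K ⊗[k] S) := Algebra.TensorProduct.rightAlgebra
  haveI : Module.Finite S (K ⊗[k] S) :=
    Module.Finite.equiv (Algebra.TensorProduct.commRight k S K).toLinearEquiv
  exact IsNoetherianRing.of_finite S (K ⊗[k] S)

omit [IsNoetherianRing S] in
theorem isNoetherianRing_tensor_of_essFiniteType [IsNoetherianRing S] (K : Type u) [Field K]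
    [Algebra k K] [Algebra.EssFiniteType k K] : IsNoetherianRing (K ⊗[k] S) := by
  haveI : IsNoetherianRing (S ⊗[k] K) := Algebra.EssFiniteType.isNoetherianRing S (S ⊗[k] K)
  exact isNoetherianRing_of_ringEquiv _ (Algebra.TensorProduct.comm k S K).toRingEquiv

/-- geometric regularity in terms of formal smoothness of the local rings -/
theorem isGeometricallyRegular_iff :
    CAlg.IsGeometricallyRegular k S ↔
      ∀ (q : Ideal S) [q.IsPrime], CAlgX.IsAdicFormallySmooth k (Localization.AtPrime q)
        (maximalIdeal (Localization.AtPrime q)) := by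
  constructor
  · intro H q _
    exact isAdicFormallySmooth_atPrime_of_isGeometricallyRegular H q
  · intro H k' _ _ hfin
    haveI := hfin
    haveI := isNoetherianRing_tensor_of_finite (k := k) (S := S) k'
    exact isRegularRing_tensor_of_isAdicFormallySmooth H k'

end bridge

end Groth.Agent.Lib.Helper90.GeomRegBridge
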