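import Groth.Agent.Lib.Helper90.LiftSqComp

set_option autoImplicit false
set_option backward.isDefEq.respectTransparency false
set_option backward.isDefEq.respectTransparency.types false
universe v₇ u₇ v₆ u₆ v₅ u₅ v₄ u₄ v₃ u₃ v₂ u₂ v u

open CategoryTheory CategoryTheory.Limits

namespace Groth.Agent.Lib.Helper90.LiftSqFp

open Groth.Agent.Lib.Helper90.LiftSqComp

variable {C : Type u} [Category.{v} C]
  {𝒜 : BasedCategory.{v₂, u₂} C} {ℬ : BasedCategory.{v₃, u₃} C}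
  {𝒳 : BasedCategory.{v₄, u₄} C} {𝒴 : BasedCategory.{v₅, u₅} C} {𝒮 : BasedCategory.{v₆, u₆} C}
  {𝒲 : BasedCategory.{v₇, u₇} C}

section Fp
variable {F : 𝒳 ⥤ᵇ 𝒮} {G : 𝒴 ⥤ᵇ 𝒮}

/-- first component of a 2-morphism between functors into the fibre product -/
def fstC {P Q : 𝒲 ⥤ᵇ FibCat.fp F G} (θ : P ⟶ Q) (w : 𝒲.obj) :
    (P.obj w).obj.fst ⟶ (Q.obj w).obj.fst := (app θ w).hom.fst

/-- second component of a 2-morphism between functors into the fibre product -/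
def sndC {P Q : 𝒲 ⥤ᵇ FibCat.fp F G} (θ : P ⟶ Q) (w : 𝒲.obj) :
    (P.obj w).obj.snd ⟶ (Q.obj w).obj.snd := (app θ w).hom.snd

theorem fstC_eq {P Q : 𝒲 ⥤ᵇ FibCat.fp F G} (θ : P ⟶ Q) (w : 𝒲.obj) :
    fstC θ w = app (BasedCategory.whiskerRight θ (FibCat.fpFst F G)) w := rfl

theorem sndC_eq {P Q : 𝒲 ⥤ᵇ FibCat.fp F G} (θ : P ⟶ Q) (w : 𝒲.obj) :
    sndC θ w = app (BasedCategory.whiskerRight θ (FibCat.fpSnd F G)) w := rfl

theorem fp_w {P Q : 𝒲 ⥤ᵇ FibCat.fp F G} (θ : P ⟶ Q) (w : 𝒲.obj) :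
    F.map (fstC θ w) ≫ (Q.obj w).obj.iso.hom = (P.obj w).obj.iso.hom ≫ G.map (sndC θ w) :=
  (app θ w).hom.w

theorem fp_hom_ext {P Q : 𝒲 ⥤ᵇ FibCat.fp F G} {θ θ' : P ⟶ Q}
    (h1 : ∀ w, fstC θ w = fstC θ' w) (h2 : ∀ w, sndC θ w = sndC θ' w) : θ = θ' := by
  apply hom_ext'; intro w
  apply ObjectProperty.hom_ext
  apply CategoricalPullback.hom_ext
  · exact h1 w
  · exact h2 w

@[simp] theorem fstC_id (P : 𝒲 ⥤ᵇ FibCat.fp F G) (w : 𝒲.obj) : fstC (𝟙 P) w = 𝟙 _ := rfl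
@[simp] theorem sndC_id (P : 𝒲 ⥤ᵇ FibCat.fp F G) (w : 𝒲.obj) : sndC (𝟙 P) w = 𝟙 _ := rfl
@[simp] theorem fstC_comp {P Q R : 𝒲 ⥤ᵇ FibCat.fp F G} (θ : P ⟶ Q) (θ' : Q ⟶ R) (w : 𝒲.obj) :
    fstC (θ ≫ θ') w = fstC θ w ≫ fstC θ' w := rfl
@[simp] theorem sndC_comp {P Q R : 𝒲 ⥤ᵇ FibCat.fp F G} (θ : P ⟶ Q) (θ' : Q ⟶ R) (w : 𝒲.obj) :
    sndC (θ ≫ θ') w = sndC θ w ≫ sndC θ' w := rfl

/-- a 2-morphism between functors into the fibre product from its two components -/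
def fpHomMk {P Q : 𝒲 ⥤ᵇ FibCat.fp F G}
    (α : BasedFunctor.comp P (FibCat.fpFst F G) ⟶ BasedFunctor.comp Q (FibCat.fpFst F G))
    (β : BasedFunctor.comp P (FibCat.fpSnd F G) ⟶ BasedFunctor.comp Q (FibCat.fpSnd F G))
    (h : ∀ w : 𝒲.obj, F.map (app α w) ≫ (Q.obj w).obj.iso.hom =
      (P.obj w).obj.iso.hom ≫ G.map (app β w)) : P ⟶ Q where
  toNatTrans :=
    { app := fun w => ObjectProperty.homMk ⟨app α w, app β w, h w⟩
      naturality := fun w w' φ => by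
        apply ObjectProperty.hom_ext
        apply CategoricalPullback.hom_ext
        · exact app_naturality α φ
        · exact app_naturality β φ }
  isHomLift' := fun w => by
    rw [← BasedFunctor.isHomLift_iff (FibCat.fpFst F G)]
    exact α.isHomLift' w

@[simp] theorem fstC_fpHomMk {P Q : 𝒲 ⥤ᵇ FibCat.fp F G}
    (α : BasedFunctor.comp P (FibCat.fpFst F G) ⟶ BasedFunctor.comp Q (FibCat.fpFst F G))
    (β : BasedFunctor.comp P (FibCat.fpSnd F G) ⟶ BasedFunctor.comp Q (FibCat.fpSnd F G))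
    (h) (w : 𝒲.obj) : fstC (fpHomMk α β h) w = app α w := rfl

@[simp] theorem sndC_fpHomMk {P Q : 𝒲 ⥤ᵇ FibCat.fp F G}
    (α : BasedFunctor.comp P (FibCat.fpFst F G) ⟶ BasedFunctor.comp Q (FibCat.fpFst F G))
    (β : BasedFunctor.comp P (FibCat.fpSnd F G) ⟶ BasedFunctor.comp Q (FibCat.fpSnd F G))
    (h) (w : 𝒲.obj) : sndC (fpHomMk α β h) w = app β w := rfl

theorem inv_compat {A : Type*} [Category A] {a a' b b' : A} {p : a ⟶ b} {q : a' ⟶ b'}
    {u : a ⟶ a'} {u' : a' ⟶ a} {v : b ⟶ b'} {v' : b' ⟶ b}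
    (hu : u' ≫ u = 𝟙 _) (hv : v ≫ v' = 𝟙 _) (h : u ≫ q = p ≫ v) : u' ≫ p = q ≫ v' := by
  calc u' ≫ p = u' ≫ (p ≫ v) ≫ v' := by rw [Category.assoc, hv, Category.comp_id]
    _ = q ≫ v' := by rw [← h, Category.assoc, ← Category.assoc, hu, Category.id_comp]

/-- a 2-isomorphism between functors into the fibre product from its two components -/
def fpIsoMk {P Q : 𝒲 ⥤ᵇ FibCat.fp F G}
    (α : BasedFunctor.comp P (FibCat.fpFst F G) ≅ BasedFunctor.comp Q (FibCat.fpFst F G))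
    (β : BasedFunctor.comp P (FibCat.fpSnd F G) ≅ BasedFunctor.comp Q (FibCat.fpSnd F G))
    (h : ∀ w : 𝒲.obj, F.map (app α.hom w) ≫ (Q.obj w).obj.iso.hom =
      (P.obj w).obj.iso.hom ≫ G.map (app β.hom w)) : P ≅ Q where
  hom := fpHomMk α.hom β.hom h
  inv := fpHomMk α.inv β.inv (fun w => by
    have h1 : F.map (app α.inv w) ≫ F.map (app α.hom w) = 𝟙 _ := by
      rw [← F.map_comp, app_inv_hom, F.map_id]
    have h2 : G.map (app β.hom w) ≫ G.map (app β.inv w) = 𝟙 _ := by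
      rw [← G.map_comp, app_hom_inv, G.map_id]
    exact inv_compat h1 h2 (h w))
  hom_inv_id := by
    apply fp_hom_ext
    · intro w; rw [fstC_comp, fstC_fpHomMk, fstC_fpHomMk, app_hom_inv]; rfl
    · intro w; rw [sndC_comp, sndC_fpHomMk, sndC_fpHomMk, app_hom_inv]; rfl
  inv_hom_id := by
    apply fp_hom_ext
    · intro w; rw [fstC_comp, fstC_fpHomMk, fstC_fpHomMk, app_inv_hom]; rfl
    · intro w; rw [sndC_comp, sndC_fpHomMk, sndC_fpHomMk, app_inv_hom]; rfl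

end Fp


section BaseChange
variable {j : 𝒜 ⥤ᵇ ℬ} {f : 𝒳 ⥤ᵇ 𝒴} {y : 𝒮 ⥤ᵇ 𝒴}

theorem fpLift_fst (a : 𝒲 ⥤ᵇ 𝒮) (b : 𝒲 ⥤ᵇ 𝒳)
    (e : BasedFunctor.comp a y ≅ BasedFunctor.comp b f) :
    BasedFunctor.comp (FibCat.fpLift a b e) (FibCat.fpFst y f) = a := rfl

theorem fpLift_snd (a : 𝒲 ⥤ᵇ 𝒮) (b : 𝒲 ⥤ᵇ 𝒳)
    (e : BasedFunctor.comp a y ≅ BasedFunctor.comp b f) :
    BasedFunctor.comp (FibCat.fpLift a b e) (FibCat.fpSnd y f) = b := rfl

/-- the square for `f` cut out by a square for the base change of `f` -/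
def sqF (sq : LiftSq.Sq j (FibCat.fpFst y f)) : LiftSq.Sq j f where
  top := BasedFunctor.comp sq.top (FibCat.fpSnd y f)
  bot := BasedFunctor.comp sq.bot y
  iso := whiskerRightIso sq.iso y ≪≫ whiskerLeftIso sq.top (FibCat.fpIso y f)

theorem sqF_iso_app (sq : LiftSq.Sq j (FibCat.fpFst y f)) (x : 𝒜.obj) :
    app (sqF sq).iso.hom x = y.map (app sq.iso.hom x) ≫ (sq.top.obj x).obj.iso.hom := rfl

theorem lifts_fpFst (hf : LiftSq.Lifts j f) : LiftSq.Lifts j (FibCat.fpFst y f) := by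
  intro sq
  obtain ⟨df⟩ := hf (sqF sq)
  let fn : ℬ ⥤ᵇ FibCat.fp y f := FibCat.fpLift sq.bot df.fn df.isoBot
  have hw : ∀ x : 𝒜.obj, y.map (app sq.iso.hom x) ≫ (sq.top.obj x).obj.iso.hom =
      app df.isoBot.hom (j.obj x) ≫ f.map (app df.isoTop.hom x) := fun x =>
    (lift_w_app df x).symm
  let isoTop : BasedFunctor.comp j fn ≅ sq.top := fpIsoMk sq.iso df.isoTop hw
  refine ⟨mkLift fn isoTop (Iso.refl _) (fun x => ?_)⟩
  change 𝟙 _ ≫ app sq.iso.hom x = app sq.iso.hom x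
  rw [Category.id_comp]

end BaseChange


section BaseChangeUniq
variable {j : 𝒜 ⥤ᵇ ℬ} {f : 𝒳 ⥤ᵇ 𝒴} {y : 𝒮 ⥤ᵇ 𝒴}

/-- a dotted arrow for the base change of `f` gives one for `f` -/
def liftF {sq : LiftSq.Sq j (FibCat.fpFst y f)} (d : sq.Lift) : (sqF sq).Lift :=
  mkLift (BasedFunctor.comp d.fn (FibCat.fpSnd y f))
    (whiskerRightIso d.isoTop (FibCat.fpSnd y f))
    (whiskerRightIso d.isoBot y ≪≫ whiskerLeftIso d.fn (FibCat.fpIso y f))
    (fun x => by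
      have h1 : y.map (fstC d.isoTop.hom x) ≫ (sq.top.obj x).obj.iso.hom =
          (d.fn.obj (j.obj x)).obj.iso.hom ≫ f.map (sndC d.isoTop.hom x) := fp_w d.isoTop.hom x
      have h2 : app d.isoBot.hom (j.obj x) ≫ fstC d.isoTop.hom x = app sq.iso.hom x :=
        lift_w_app d x
      change (y.map (app d.isoBot.hom (j.obj x)) ≫ (d.fn.obj (j.obj x)).obj.iso.hom) ≫
        f.map (sndC d.isoTop.hom x) = y.map (app sq.iso.hom x) ≫ (sq.top.obj x).obj.iso.hom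
      rw [Category.assoc, ← h1, ← Category.assoc, ← y.map_comp, h2])

theorem liftF_isoBot_app {sq : LiftSq.Sq j (FibCat.fpFst y f)} (d : sq.Lift) (b : ℬ.obj) :
    app (liftF d).isoBot.hom b = y.map (app d.isoBot.hom b) ≫ (d.fn.obj b).obj.iso.hom := rfl

theorem liftF_isoTop_app {sq : LiftSq.Sq j (FibCat.fpFst y f)} (d : sq.Lift) (x : 𝒜.obj) :
    app (liftF d).isoTop.hom x = sndC d.isoTop.hom x := rfl

/-- a morphism of dotted arrows for the base change of `f` gives one for `f` -/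
def liftFHom {sq : LiftSq.Sq j (FibCat.fpFst y f)} {d d' : sq.Lift} (θ : d ⟶ d') :
    liftF d ⟶ liftF d' :=
  mkHom (BasedCategory.whiskerRight θ.hom (FibCat.fpSnd y f))
    (fun x => by
      have := hom_w_top_app θ x
      exact congrArg (fun m => m.hom.snd) this)
    (fun b => by
      have h1 : y.map (fstC θ.hom b) ≫ (d'.fn.obj b).obj.iso.hom =
          (d.fn.obj b).obj.iso.hom ≫ f.map (sndC θ.hom b) := fp_w θ.hom b
      have h2 : app d.isoBot.hom b ≫ fstC θ.hom b = app d'.isoBot.hom b := hom_w_bot_app θ b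
      change (y.map (app d.isoBot.hom b) ≫ (d.fn.obj b).obj.iso.hom) ≫ f.map (sndC θ.hom b) =
        y.map (app d'.isoBot.hom b) ≫ (d'.fn.obj b).obj.iso.hom
      rw [Category.assoc, ← h1, ← Category.assoc, ← y.map_comp, h2])

theorem liftsUnique_fpFst (hf : LiftSq.LiftsUnique j f) :
    LiftSq.LiftsUnique j (FibCat.fpFst y f) := by
  intro sq d d'
  obtain ⟨uφ⟩ := hf (sqF sq) (liftF d) (liftF d')
  set φ := uφ.default with hφ
  let α : BasedFunctor.comp d.fn (FibCat.fpFst y f) ⟶ BasedFunctor.comp d'.fn (FibCat.fpFst y f) :=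
    d.isoBot.inv ≫ d'.isoBot.hom
  have hα : ∀ b, app α b = app d.isoBot.inv b ≫ app d'.isoBot.hom b := fun b => rfl
  have hαφ : ∀ b : ℬ.obj, y.map (app α b) ≫ (d'.fn.obj b).obj.iso.hom =
      (d.fn.obj b).obj.iso.hom ≫ f.map (app φ.hom b) := by
    intro b
    have h1 : (y.map (app d.isoBot.hom b) ≫ (d.fn.obj b).obj.iso.hom) ≫ f.map (app φ.hom b) =
        y.map (app d'.isoBot.hom b) ≫ (d'.fn.obj b).obj.iso.hom := hom_w_bot_app φ b
    have h2 : y.map (app d.isoBot.inv b) ≫ y.map (app d.isoBot.hom b) = 𝟙 _ := by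
      rw [← y.map_comp, app_inv_hom, y.map_id]
    rw [hα, y.map_comp, Category.assoc, ← h1, Category.assoc, ← Category.assoc, h2,
      Category.id_comp]
  let θ0h : d.fn ⟶ d'.fn := fpHomMk α φ.hom hαφ
  have hb : ∀ (d : sq.Lift) (b : ℬ.obj), app d.isoBot.hom b ≫ app d.isoBot.inv b = 𝟙 _ :=
    fun d b => app_hom_inv d.isoBot b
  let θ0 : d ⟶ d' := mkHom θ0h
    (fun x => by
      apply ObjectProperty.hom_ext
      apply CategoricalPullback.hom_ext
      · change app α (j.obj x) ≫ fstC d'.isoTop.hom x = fstC d.isoTop.hom x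
        have h1 : app d.isoBot.hom (j.obj x) ≫ fstC d.isoTop.hom x = app sq.iso.hom x :=
          lift_w_app d x
        have h2 : app d'.isoBot.hom (j.obj x) ≫ fstC d'.isoTop.hom x = app sq.iso.hom x :=
          lift_w_app d' x
        have h3 : app d.isoBot.inv (j.obj x) ≫ app d.isoBot.hom (j.obj x) = 𝟙 _ :=
          app_inv_hom d.isoBot _
        rw [hα, Category.assoc, h2, ← h1, ← Category.assoc, h3, Category.id_comp]
      · exact hom_w_top_app φ x)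
    (fun b => by
      change app d.isoBot.hom b ≫ app α b = app d'.isoBot.hom b
      rw [hα, ← Category.assoc, hb d b, Category.id_comp])
  refine ⟨⟨⟨θ0⟩, fun θ' => ?_⟩⟩
  apply LiftSq.Sq.Lift.hom_ext
  change θ'.hom = θ0h
  apply fp_hom_ext
  · intro b
    change fstC θ'.hom b = app α b
    have h2 : app d.isoBot.hom b ≫ fstC θ'.hom b = app d'.isoBot.hom b := hom_w_bot_app θ' b
    have h3 : app d.isoBot.inv b ≫ app d.isoBot.hom b = 𝟙 _ := app_inv_hom d.isoBot _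
    rw [hα, ← h2, ← Category.assoc, h3, Category.id_comp]
  · intro b
    change sndC θ'.hom b = app φ.hom b
    have e1 : liftFHom θ' = φ := uφ.uniq _
    rw [← e1]; rfl

theorem liftsUniquely_fpFst (hf : LiftSq.LiftsUniquely j f) :
    LiftSq.LiftsUniquely j (FibCat.fpFst y f) := fun sq =>
  ⟨lifts_fpFst (fun s => (hf s).1) sq, liftsUnique_fpFst (fun s => (hf s).2) sq⟩

end BaseChangeUniq

end Groth.Agent.Lib.Helper90.LiftSqFp
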