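import Mathlib

/-!
# Quotients of a Noetherian local algebra with finite residue field extension are finite (helper90)
-/

set_option autoImplicit false
set_option linter.style.haveILetI false
set_option linter.unusedSectionVars false
universe u v

namespace Groth.Agent.Lib.Helper90.FiniteResidue

open IsLocalRing

variable (k₀ : Type v) (A : Type u) [Field k₀] [CommRing A] [IsLocalRing A] [IsNoetherianRing A]
  [Algebra k₀ A] [Module.Finite k₀ (ResidueField A)]

/-- every element of `A` is congruent modulo the maximal ideal to a `k₀`-combination of finitely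
many fixed elements -/
theorem exists_finite_lifts : ∃ (t : ℕ) (b : Fin t → A), ∀ a : A, ∃ c : Fin t → k₀,
    a - ∑ j, algebraMap k₀ A (c j) * b j ∈ maximalIdeal A := by
  obtain ⟨t, v, hv⟩ := Module.Finite.exists_fin (R := k₀) (M := ResidueField A)
  choose b hb using fun j => residue_surjective (v j)
  refine ⟨t, b, fun a => ?_⟩
  have : residue A a ∈ Submodule.span k₀ (Set.range v) := by rw [hv]; trivial
  obtain ⟨c, hc⟩ := (Submodule.mem_span_range_iff_exists_fun k₀).mp this
  refine ⟨c, ?_⟩
  rw [← residue_eq_zero_iff, map_sub, sub_eq_zero, ← hc, map_sum]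
  refine Finset.sum_congr rfl (fun j _ => ?_)
  rw [map_mul, hb, Algebra.smul_def]
  rfl

theorem finite_quotient_pow (N : ℕ) : Module.Finite k₀ (A ⧸ maximalIdeal A ^ N) := by
  classical
  induction N with
  | zero =>
    haveI : Subsingleton (A ⧸ maximalIdeal A ^ 0) := by
      rw [pow_zero]
      exact Ideal.Quotient.subsingleton_iff.mpr Ideal.one_eq_top
    infer_instance
  | succ N ih =>
    have hle : maximalIdeal A ^ (N + 1) ≤ maximalIdeal A ^ N := Ideal.pow_le_pow_right (Nat.le_succ N)
    let π : (A ⧸ maximalIdeal A ^ (N + 1)) →ₗ[k₀] (A ⧸ maximalIdeal A ^ N) :=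
      (Ideal.Quotient.factorₐ k₀ hle).toLinearMap
    have hπ : Function.Surjective π := Ideal.Quotient.factor_surjective hle
    obtain ⟨t, b, hb⟩ := exists_finite_lifts k₀ A
    obtain ⟨s, z, hz⟩ : ∃ (s : ℕ) (z : Fin s → A), Ideal.span (Set.range z) = maximalIdeal A ^ N := by
      obtain ⟨s, z, hz⟩ := Submodule.fg_iff_exists_fin_generating_family.mp
        (IsNoetherian.noetherian (maximalIdeal A ^ N))
      exact ⟨s, z, hz⟩
    let S : Set (A ⧸ maximalIdeal A ^ (N + 1)) :=
      Set.range (fun ij : Fin t × Fin s => Ideal.Quotient.mk _ (b ij.1 * z ij.2))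
    have hSfin : S.Finite := Set.finite_range _
    have hker : LinearMap.ker π ≤ Submodule.span k₀ S := by
      intro y hy
      obtain ⟨y, rfl⟩ := Ideal.Quotient.mk_surjective y
      have hy' : y ∈ maximalIdeal A ^ N := by
        have : Ideal.Quotient.mk (maximalIdeal A ^ N) y = 0 := hy
        exact Ideal.Quotient.eq_zero_iff_mem.mp this
      rw [← hz] at hy'
      obtain ⟨a, ha⟩ := (Ideal.mem_span_range_iff_exists_fun).mp hy'
      choose c hc using fun i => hb (a i)
      have hzm : ∀ i, z i ∈ maximalIdeal A ^ N := fun i => hz ▸ Ideal.subset_span ⟨i, rfl⟩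
      have key : Ideal.Quotient.mk (maximalIdeal A ^ (N + 1)) y =
          ∑ i, ∑ j, c i j • Ideal.Quotient.mk (maximalIdeal A ^ (N + 1)) (b j * z i) := by
        rw [← ha, map_sum]
        refine Finset.sum_congr rfl (fun i _ => ?_)
        have h1 : (a i - ∑ j, algebraMap k₀ A (c i j) * b j) * z i ∈ maximalIdeal A ^ (N + 1) := by
          rw [pow_succ']
          exact Ideal.mul_mem_mul (hc i) (hzm i)
        have h2 := Ideal.Quotient.eq_zero_iff_mem.mpr h1
        rw [sub_mul, map_sub, sub_eq_zero] at h2
        rw [h2, Finset.sum_mul, map_sum]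
        refine Finset.sum_congr rfl (fun j _ => ?_)
        rw [mul_assoc, map_mul, Algebra.smul_def]
        rfl
      rw [key]
      refine Submodule.sum_mem _ (fun i _ => Submodule.sum_mem _ (fun j _ => ?_))
      exact Submodule.smul_mem _ _ (Submodule.subset_span ⟨(j, i), rfl⟩)
    haveI : FiniteDimensional k₀ (Submodule.span k₀ S) := FiniteDimensional.span_of_finite k₀ hSfin
    haveI : Module.Finite k₀ (LinearMap.ker π) := Submodule.finiteDimensional_of_le hker
    exact Module.Finite.of_exact (LinearMap.exact_subtype_ker_map π) hπ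

theorem finite_quotient_of_le_radical (J : Ideal A) (h : maximalIdeal A ≤ J.radical) :
    Module.Finite k₀ (A ⧸ J) := by
  obtain ⟨N, hN⟩ := Ideal.exists_pow_le_of_le_radical_of_fg h (IsNoetherian.noetherian _)
  haveI := finite_quotient_pow k₀ A N
  exact Module.Finite.of_surjective (Ideal.Quotient.factorₐ k₀ hN).toLinearMap
    (Ideal.Quotient.factor_surjective hN)

end Groth.Agent.Lib.Helper90.FiniteResidue
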