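import Groth.Prelude.Def_LiftSq
import Groth.Prelude.Def_FibCat2

set_option autoImplicit false
set_option backward.isDefEq.respectTransparency false
set_option backward.isDefEq.respectTransparency.types false
universe v₆ u₆ v₅ u₅ v₄ u₄ v₃ u₃ v₂ u₂ v u

open CategoryTheory

namespace Groth.Agent.Lib.Helper90.LiftSqComp

variable {C : Type u} [Category.{v} C]
  {𝒜 : BasedCategory.{v₂, u₂} C} {ℬ : BasedCategory.{v₃, u₃} C}
  {𝒳 : BasedCategory.{v₄, u₄} C} {𝒴 : BasedCategory.{v₅, u₅} C} {𝒵 : BasedCategory.{v₆, u₆} C}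

/-- component of a 2-morphism over `C` -/
def app {F G : 𝒳 ⥤ᵇ 𝒴} (α : F ⟶ G) (x : 𝒳.obj) : F.obj x ⟶ G.obj x := α.toNatTrans.app x

theorem hom_ext' {F G : 𝒳 ⥤ᵇ 𝒴} {α β : F ⟶ G} (h : ∀ x, app α x = app β x) : α = β := by
  apply BasedNatTrans.homCategory.ext; ext x; exact h x

theorem app_congr {F G : 𝒳 ⥤ᵇ 𝒴} {α β : F ⟶ G} (h : α = β) (x : 𝒳.obj) : app α x = app β x := by
  rw [h]

@[simp] theorem app_id (F : 𝒳 ⥤ᵇ 𝒴) (x : 𝒳.obj) : app (𝟙 F) x = 𝟙 (F.obj x) := rfl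

@[simp] theorem app_comp {F G H : 𝒳 ⥤ᵇ 𝒴} (α : F ⟶ G) (β : G ⟶ H) (x : 𝒳.obj) :
    app (α ≫ β) x = app α x ≫ app β x := rfl

@[simp] theorem app_whiskerLeft (F : 𝒳 ⥤ᵇ 𝒴) {G H : 𝒴 ⥤ᵇ 𝒵} (α : G ⟶ H) (x : 𝒳.obj) :
    app (BasedCategory.whiskerLeft F α) x = app α (F.obj x) := rfl

@[simp] theorem app_whiskerRight {F G : 𝒳 ⥤ᵇ 𝒴} (α : F ⟶ G) (H : 𝒴 ⥤ᵇ 𝒵) (x : 𝒳.obj) :
    app (BasedCategory.whiskerRight α H) x = H.map (app α x) := rfl

@[simp] theorem app_hom_inv {F G : 𝒳 ⥤ᵇ 𝒴} (e : F ≅ G) (x : 𝒳.obj) :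
    app e.hom x ≫ app e.inv x = 𝟙 _ := by
  rw [← app_comp, e.hom_inv_id]; rfl

@[simp] theorem app_inv_hom {F G : 𝒳 ⥤ᵇ 𝒴} (e : F ≅ G) (x : 𝒳.obj) :
    app e.inv x ≫ app e.hom x = 𝟙 _ := by
  rw [← app_comp, e.inv_hom_id]; rfl

theorem app_naturality {F G : 𝒳 ⥤ᵇ 𝒴} (α : F ⟶ G) {x y : 𝒳.obj} (φ : x ⟶ y) :
    F.map φ ≫ app α y = app α x ≫ G.map φ := α.toNatTrans.naturality φ

/-- right whiskering of an isomorphism -/
def whiskerRightIso {F G : 𝒳 ⥤ᵇ 𝒴} (e : F ≅ G) (H : 𝒴 ⥤ᵇ 𝒵) :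
    BasedFunctor.comp F H ≅ BasedFunctor.comp G H where
  hom := BasedCategory.whiskerRight e.hom H
  inv := BasedCategory.whiskerRight e.inv H
  hom_inv_id := by rw [← LiftSq.whiskerRight_comp', e.hom_inv_id, LiftSq.whiskerRight_id']
  inv_hom_id := by rw [← LiftSq.whiskerRight_comp', e.inv_hom_id, LiftSq.whiskerRight_id']

/-- left whiskering of an isomorphism -/
def whiskerLeftIso (F : 𝒳 ⥤ᵇ 𝒴) {G H : 𝒴 ⥤ᵇ 𝒵} (e : G ≅ H) :
    BasedFunctor.comp F G ≅ BasedFunctor.comp F H where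
  hom := BasedCategory.whiskerLeft F e.hom
  inv := BasedCategory.whiskerLeft F e.inv
  hom_inv_id := by rw [← LiftSq.whiskerLeft_comp', e.hom_inv_id, LiftSq.whiskerLeft_id']
  inv_hom_id := by rw [← LiftSq.whiskerLeft_comp', e.inv_hom_id, LiftSq.whiskerLeft_id']

/-! ### Uniqueness implies invertibility -/

section Uniq
variable {j : 𝒜 ⥤ᵇ ℬ} {f : 𝒳 ⥤ᵇ 𝒴} {sq : LiftSq.Sq j f}

/-- under `UniqLift`, the hom of any morphism of dotted arrows is invertible. -/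
theorem exists_inv_of_uniqLift (h : sq.UniqLift) {d d' : sq.Lift} (φ : d ⟶ d') :
    ∃ ψ : d' ⟶ d, φ.hom ≫ ψ.hom = 𝟙 _ ∧ ψ.hom ≫ φ.hom = 𝟙 _ := by
  obtain ⟨u⟩ := h d' d
  obtain ⟨u1⟩ := h d d
  obtain ⟨u2⟩ := h d' d'
  refine ⟨u.default, ?_, ?_⟩
  · have : φ ≫ u.default = 𝟙 d := (u1.uniq _).trans (u1.uniq _).symm
    exact congrArg LiftSq.Sq.Lift.Hom.hom this
  · have : u.default ≫ φ = 𝟙 d' := (u2.uniq _).trans (u2.uniq _).symm
    exact congrArg LiftSq.Sq.Lift.Hom.hom this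

end Uniq


/-! ### Componentwise forms -/

section Components
variable {j : 𝒜 ⥤ᵇ ℬ} {f : 𝒳 ⥤ᵇ 𝒴} {sq : LiftSq.Sq j f}

theorem lift_w_app (d : sq.Lift) (x : 𝒜.obj) :
    app d.isoBot.hom (j.obj x) ≫ f.map (app d.isoTop.hom x) = app sq.iso.hom x :=
  app_congr d.w x

theorem hom_w_top_app {d d' : sq.Lift} (θ : d ⟶ d') (x : 𝒜.obj) :
    app θ.hom (j.obj x) ≫ app d'.isoTop.hom x = app d.isoTop.hom x :=
  app_congr θ.w_top x

theorem hom_w_bot_app {d d' : sq.Lift} (θ : d ⟶ d') (y : ℬ.obj) :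
    app d.isoBot.hom y ≫ f.map (app θ.hom y) = app d'.isoBot.hom y :=
  app_congr θ.w_bot y

/-- build a dotted arrow from a componentwise compatibility. -/
def mkLift (fn : ℬ ⥤ᵇ 𝒳) (isoTop : BasedFunctor.comp j fn ≅ sq.top)
    (isoBot : sq.bot ≅ BasedFunctor.comp fn f)
    (w : ∀ x : 𝒜.obj, app isoBot.hom (j.obj x) ≫ f.map (app isoTop.hom x) = app sq.iso.hom x) :
    sq.Lift where
  fn := fn
  isoTop := isoTop
  isoBot := isoBot
  w := hom_ext' w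

/-- build a morphism of dotted arrows from componentwise compatibilities. -/
def mkHom {d d' : sq.Lift} (hom : d.fn ⟶ d'.fn)
    (w_top : ∀ x : 𝒜.obj, app hom (j.obj x) ≫ app d'.isoTop.hom x = app d.isoTop.hom x)
    (w_bot : ∀ y : ℬ.obj, app d.isoBot.hom y ≫ f.map (app hom y) = app d'.isoBot.hom y) :
    d ⟶ d' where
  hom := hom
  w_top := hom_ext' w_top
  w_bot := hom_ext' w_bot

end Components

/-! ### Composition -/

section Comp
variable {j : 𝒜 ⥤ᵇ ℬ} {f : 𝒳 ⥤ᵇ 𝒴} {g : 𝒴 ⥤ᵇ 𝒵}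

/-- the square for `g` cut out by a square for `f ⋙ g`. -/
def sqG (sq : LiftSq.Sq j (BasedFunctor.comp f g)) : LiftSq.Sq j g where
  top := BasedFunctor.comp sq.top f
  bot := sq.bot
  iso := sq.iso

/-- a dotted arrow for `f ⋙ g` gives one for `g`. -/
def liftG {sq : LiftSq.Sq j (BasedFunctor.comp f g)} (d : sq.Lift) : (sqG sq).Lift where
  fn := BasedFunctor.comp d.fn f
  isoTop := whiskerRightIso d.isoTop f
  isoBot := d.isoBot
  w := d.w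

/-- a morphism of dotted arrows for `f ⋙ g` gives one for `g`. -/
def liftGHom {sq : LiftSq.Sq j (BasedFunctor.comp f g)} {d d' : sq.Lift} (θ : d ⟶ d') :
    liftG d ⟶ liftG d' :=
  mkHom (BasedCategory.whiskerRight θ.hom f)
    (fun x => by
      change f.map (app θ.hom (j.obj x)) ≫ f.map (app d'.isoTop.hom x) = f.map (app d.isoTop.hom x)
      rw [← f.map_comp, hom_w_top_app θ x])
    (fun y => hom_w_bot_app θ y)

theorem lifts_comp (hf : LiftSq.Lifts j f) (hg : LiftSq.Lifts j g) :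
    LiftSq.Lifts j (BasedFunctor.comp f g) := by
  intro sq
  obtain ⟨dg⟩ := hg (sqG sq)
  obtain ⟨df⟩ := hf ⟨sq.top, dg.fn, dg.isoTop⟩
  refine ⟨mkLift df.fn df.isoTop (dg.isoBot ≪≫ whiskerRightIso df.isoBot g) ?_⟩
  intro x
  have h1 : app dg.isoBot.hom (j.obj x) ≫ g.map (app dg.isoTop.hom x) = app sq.iso.hom x :=
    lift_w_app dg x
  have h2 : app df.isoBot.hom (j.obj x) ≫ f.map (app df.isoTop.hom x) = app dg.isoTop.hom x :=
    lift_w_app df x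
  change (app dg.isoBot.hom (j.obj x) ≫ g.map (app df.isoBot.hom (j.obj x))) ≫
    g.map (f.map (app df.isoTop.hom x)) = app sq.iso.hom x
  rw [← h1, ← h2, Category.assoc, g.map_comp]

end Comp


section CompUniq
variable {j : 𝒜 ⥤ᵇ ℬ} {f : 𝒳 ⥤ᵇ 𝒴} {g : 𝒴 ⥤ᵇ 𝒵}

theorem liftsUnique_comp (hf : LiftSq.LiftsUnique j f) (hg : LiftSq.LiftsUnique j g) :
    LiftSq.LiftsUnique j (BasedFunctor.comp f g) := by
  intro sq d d'
  obtain ⟨uφ⟩ := hg (sqG sq) (liftG d) (liftG d')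
  obtain ⟨ψ, hφψ, hψφ⟩ := exists_inv_of_uniqLift (hg (sqG sq)) (uφ.default)
  set φ := uφ.default with hφ
  -- the square for `f`
  let sqF : LiftSq.Sq j f := ⟨sq.top, BasedFunctor.comp d'.fn f, whiskerRightIso d'.isoTop f⟩
  let Φ : BasedFunctor.comp d.fn f ≅ BasedFunctor.comp d'.fn f := ⟨φ.hom, ψ.hom, hφψ, hψφ⟩
  let dF' : sqF.Lift := mkLift d'.fn d'.isoTop (Iso.refl _) (fun x => by
    change 𝟙 _ ≫ f.map (app d'.isoTop.hom x) = f.map (app d'.isoTop.hom x)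
    rw [Category.id_comp])
  let dF : sqF.Lift := mkLift d.fn d.isoTop Φ.symm (fun x => by
    change app ψ.hom (j.obj x) ≫ f.map (app d.isoTop.hom x) = f.map (app d'.isoTop.hom x)
    exact hom_w_top_app ψ x)
  obtain ⟨uθ⟩ := hf sqF dF dF'
  have key : ∀ (θ' : dF ⟶ dF') (y : ℬ.obj), f.map (app θ'.hom y) = app φ.hom y := by
    intro θ' y
    have h1 : app ψ.hom y ≫ f.map (app θ'.hom y) = 𝟙 _ := hom_w_bot_app θ' y
    have h2 : app φ.hom y ≫ app ψ.hom y = 𝟙 _ := app_congr hφψ y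
    calc f.map (app θ'.hom y) = (app φ.hom y ≫ app ψ.hom y) ≫ f.map (app θ'.hom y) := by
          rw [h2, Category.id_comp]
      _ = app φ.hom y := by rw [Category.assoc, h1, Category.comp_id]
  have mk : ∀ θ' : dF ⟶ dF', ∃ θ'' : d ⟶ d', θ''.hom = θ'.hom := by
    intro θ'
    refine ⟨mkHom θ'.hom (fun x => hom_w_top_app θ' x) (fun y => ?_), rfl⟩
    change app d.isoBot.hom y ≫ g.map (f.map (app θ'.hom y)) = app d'.isoBot.hom y
    rw [key θ' y]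
    exact hom_w_bot_app φ y
  obtain ⟨θ0, hθ0⟩ := mk uθ.default
  refine ⟨⟨⟨θ0⟩, fun θ' => ?_⟩⟩
  apply LiftSq.Sq.Lift.hom_ext
  change θ'.hom = θ0.hom
  rw [hθ0]
  have e1 : liftGHom θ' = φ := uφ.uniq _
  have e2 : ∀ y, f.map (app θ'.hom y) = app φ.hom y := fun y => by
    rw [← e1]; rfl
  let θF : dF ⟶ dF' := mkHom θ'.hom (fun x => hom_w_top_app θ' x) (fun y => by
    change app ψ.hom y ≫ f.map (app θ'.hom y) = 𝟙 _
    rw [e2 y]
    exact app_congr hψφ y)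
  have : θF = uθ.default := uθ.uniq _
  exact congrArg LiftSq.Sq.Lift.Hom.hom this

theorem liftsUniquely_comp (hf : LiftSq.LiftsUniquely j f) (hg : LiftSq.LiftsUniquely j g) :
    LiftSq.LiftsUniquely j (BasedFunctor.comp f g) := fun sq =>
  ⟨lifts_comp (fun s => (hf s).1) (fun s => (hg s).1) sq,
    liftsUnique_comp (fun s => (hf s).2) (fun s => (hg s).2) sq⟩

end CompUniq

end Groth.Agent.Lib.Helper90.LiftSqComp
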