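import Mathlib
import Groth.Prelude.Def_W4c5stacksedinertiaGpd

/-!
Infrastructure for the block S18020–S18025 (the inertia operators on the rational vector space
with basis the isomorphism classes of finite groups).
-/

set_option autoImplicit false

universe u v

namespace Groth.Agent.Lib.Helper90

open W4c5stacksedinertia

/-- The presentation `FinGrp.of G` is isomorphic to `G`. -/
noncomputable def finGrpOfEquiv (G : Type u) [Group G] [Finite G] : (FinGrp.of G).carrier ≃* G :=
  { toEquiv := (Nat.equivFinOfCardPos (α := G) Nat.card_pos.ne').symm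
    map_mul' := fun x y => by
      exact ((Nat.equivFinOfCardPos (α := G) Nat.card_pos.ne').symm).apply_symm_apply _ }

theorem idxOf_eq_of_mulEquiv {G : Type u} {H : Type v} [Group G] [Finite G] [Group H] [Finite H]
    (e : G ≃* H) : Idx.of G = Idx.of H := by
  apply Quotient.sound
  exact ⟨(finGrpOfEquiv G).trans (e.trans (finGrpOfEquiv H).symm)⟩

/-- The chosen representative of the class of `G` is isomorphic to `G`. -/
noncomputable def repOfEquiv (G : Type u) [Group G] [Finite G] : (Idx.of G).rep ≃* G := by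
  have h : FinGrp.setoid.r (Quotient.out (s := FinGrp.setoid) (Idx.of G)) (FinGrp.of G) :=
    Quotient.mk_out (s := FinGrp.setoid) _
  exact (Classical.choice h).trans (finGrpOfEquiv G)

theorem idxOf_rep (i : Idx) : Idx.of i.rep = i := by
  conv_rhs => rw [← Quotient.out_eq (s := FinGrp.setoid) i]
  apply Quotient.sound
  exact ⟨finGrpOfEquiv _⟩

theorem card_idxOf (G : Type u) [Group G] [Finite G] : (Idx.of G).card = Nat.card G :=
  Nat.card_congr (repOfEquiv G).toEquiv

theorem centerCard_idxOf (G : Type u) [Group G] [Finite G] :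
    (Idx.of G).centerCard = Nat.card (Subgroup.center G) := by
  unfold Idx.centerCard
  have e := repOfEquiv G
  refine Nat.card_congr ?_
  exact
    { toFun := fun x => ⟨e x.1, by
        rw [Subgroup.mem_center_iff]
        intro g
        obtain ⟨g', rfl⟩ := e.surjective g
        rw [← map_mul, ← map_mul, Subgroup.mem_center_iff.mp x.2 g']⟩
      invFun := fun x => ⟨e.symm x.1, by
        rw [Subgroup.mem_center_iff]
        intro g
        obtain ⟨g', rfl⟩ := e.symm.surjective g
        rw [← map_mul, ← map_mul, Subgroup.mem_center_iff.mp x.2 g']⟩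
      left_inv := fun x => by simp
      right_inv := fun x => by simp }

theorem cl_rep (i : Idx) : cl i.rep = Finsupp.single i 1 := by
  unfold cl; rw [idxOf_rep]

section Action
variable (G : Type u) [Group G] (r : ℕ)

/-- Conjugation of a commuting tuple. -/
def conjTuple (g : G) (s : CommTuple G r) : CommTuple G r :=
  ⟨fun i => g * s.1 i * g⁻¹, by
    intro i j h
    apply s.2.1
    simpa using h, by
    intro i j
    have := s.2.2 i j
    show (g * s.1 i * g⁻¹) * (g * s.1 j * g⁻¹) = (g * s.1 j * g⁻¹) * (g * s.1 i * g⁻¹)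
    have h : s.1 i * s.1 j = s.1 j * s.1 i := this
    calc (g * s.1 i * g⁻¹) * (g * s.1 j * g⁻¹) = g * (s.1 i * s.1 j) * g⁻¹ := by group
      _ = g * (s.1 j * s.1 i) * g⁻¹ := by rw [h]
      _ = _ := by group⟩

/-- The conjugation action of `G` on commuting tuples. -/
instance tupleAction : MulAction G (CommTuple G r) where
  smul := conjTuple G r
  one_smul s := by
    apply Subtype.ext; funext i
    show 1 * s.1 i * 1⁻¹ = s.1 i
    simp
  mul_smul g h s := by
    apply Subtype.ext; funext i
    show (g * h) * s.1 i * (g * h)⁻¹ = g * (h * s.1 i * h⁻¹) * g⁻¹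
    group

end Action

variable {G : Type u} [Group G] {r : ℕ}

theorem setoid_iff_orbit (s t : CommTuple G r) :
    (CommTuple.setoid G r).r s t ↔ t ∈ MulAction.orbit G s := by
  constructor
  · rintro ⟨g, hg⟩
    exact ⟨g, Subtype.ext (funext hg)⟩
  · rintro ⟨g, hg⟩
    exact ⟨g, fun i => congrFun (congrArg Subtype.val hg) i⟩

theorem stabilizer_eq_centralizer (s : CommTuple G r) :
    MulAction.stabilizer G s = Subgroup.centralizer (Set.range s.1) := by
  ext g
  rw [MulAction.mem_stabilizer_iff, Subgroup.mem_centralizer_iff]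
  constructor
  · intro h x hx
    obtain ⟨i, rfl⟩ := hx
    have := congrFun (congrArg Subtype.val h) i
    have h2 : g * s.1 i * g⁻¹ = s.1 i := this
    calc s.1 i * g = (g * s.1 i * g⁻¹) * g := by rw [h2]
      _ = g * s.1 i := by group
  · intro h
    apply Subtype.ext; funext i
    show g * s.1 i * g⁻¹ = s.1 i
    have := h (s.1 i) ⟨i, rfl⟩
    rw [← this]; group

/-- Centralizers of conjugate tuples are isomorphic. -/
noncomputable def centralizerConjEquiv (g : G) (s : CommTuple G r) :
    Subgroup.centralizer (Set.range s.1) ≃* Subgroup.centralizer (Set.range (conjTuple G r g s).1) where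
  toFun x := ⟨g * x.1 * g⁻¹, by
    rw [Subgroup.mem_centralizer_iff]
    rintro _ ⟨i, rfl⟩
    have := (Subgroup.mem_centralizer_iff.mp x.2) (s.1 i) ⟨i, rfl⟩
    show (g * s.1 i * g⁻¹) * (g * x.1 * g⁻¹) = (g * x.1 * g⁻¹) * (g * s.1 i * g⁻¹)
    calc (g * s.1 i * g⁻¹) * (g * x.1 * g⁻¹) = g * (s.1 i * x.1) * g⁻¹ := by group
      _ = g * (x.1 * s.1 i) * g⁻¹ := by rw [this]
      _ = _ := by group⟩
  invFun x := ⟨g⁻¹ * x.1 * g, by
    rw [Subgroup.mem_centralizer_iff]
    rintro _ ⟨i, rfl⟩
    have := (Subgroup.mem_centralizer_iff.mp x.2) (g * s.1 i * g⁻¹) ⟨i, rfl⟩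
    calc s.1 i * (g⁻¹ * x.1 * g) = g⁻¹ * ((g * s.1 i * g⁻¹) * x.1) * g := by group
      _ = g⁻¹ * (x.1 * (g * s.1 i * g⁻¹)) * g := by rw [this]
      _ = _ := by group⟩
  left_inv x := by apply Subtype.ext; show g⁻¹ * (g * x.1 * g⁻¹) * g = x.1; group
  right_inv x := by apply Subtype.ext; show g * (g⁻¹ * x.1 * g) * g⁻¹ = x.1; group
  map_mul' x y := by
    apply Subtype.ext
    show g * (x.1 * y.1) * g⁻¹ = (g * x.1 * g⁻¹) * (g * y.1 * g⁻¹)
    group

/-- the summand of the inertia operator -/
noncomputable def centCl [Finite G] (s : CommTuple G r) : K :=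
  cl (Subgroup.centralizer (Set.range s.1))

theorem centCl_conj [Finite G] (g : G) (s : CommTuple G r) :
    centCl (conjTuple G r g s) = centCl s := by
  unfold centCl cl
  rw [idxOf_eq_of_mulEquiv (centralizerConjEquiv g s)]

theorem centCl_eq_of_rel [Finite G] {s t : CommTuple G r} (h : (CommTuple.setoid G r).r s t) :
    centCl s = centCl t := by
  obtain ⟨g, hg⟩ := h
  have : t = conjTuple G r g s := Subtype.ext (funext fun i => (hg i).symm)
  rw [this, centCl_conj]

instance [Finite G] : Finite (CommTuple G r) := by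
  unfold CommTuple; infer_instance

instance [Finite G] : Finite (CommTuple.Orbit G r) := by
  unfold CommTuple.Orbit; infer_instance

/-- Orbit-stabilizer form of the inertia operator: `|G| • I_r[G] = ∑_s |C(s)| • [C(s)]`. -/
theorem card_smul_inertiaROf (G : Type u) [Group G] [Finite G] (r : ℕ) :
    (Nat.card G : ℚ) • inertiaROf r G =
      ∑ᶠ s : CommTuple G r, (Nat.card (Subgroup.centralizer (Set.range s.1)) : ℚ) • centCl s := by
  classical
  have : Fintype G := Fintype.ofFinite G
  have : Fintype (CommTuple G r) := Fintype.ofFinite _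
  have : Fintype (CommTuple.Orbit G r) := Fintype.ofFinite _
  unfold inertiaROf
  rw [finsum_eq_sum_of_fintype, finsum_eq_sum_of_fintype]
  -- fiberwise
  let q : CommTuple G r → CommTuple.Orbit G r := Quotient.mk (CommTuple.setoid G r)
  rw [← Finset.sum_fiberwise Finset.univ q, Finset.smul_sum]
  apply Finset.sum_congr rfl
  intro O _
  set s₀ := Quotient.out (s := CommTuple.setoid G r) O with hs₀
  -- every s in the fiber is related to s₀
  have hrel : ∀ s ∈ Finset.univ.filter (fun s => q s = O), (CommTuple.setoid G r).r s₀ s := by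
    intro s hs
    rw [Finset.mem_filter] at hs
    have : q s = q s₀ := by rw [hs.2, hs₀]; exact (Quotient.out_eq (s := CommTuple.setoid G r) O).symm
    exact (CommTuple.setoid G r).symm (Quotient.exact this)
  have h1 : ∑ s ∈ Finset.univ.filter (fun s => q s = O),
      (Nat.card (Subgroup.centralizer (Set.range s.1)) : ℚ) • centCl s =
      (∑ s ∈ Finset.univ.filter (fun s => q s = O),
      (Nat.card (Subgroup.centralizer (Set.range s.1)) : ℚ)) • centCl s₀ := by
    rw [Finset.sum_smul]
    apply Finset.sum_congr rfl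
    intro s hs
    rw [centCl_eq_of_rel (hrel s hs)]
  rw [h1]
  show (Nat.card G : ℚ) • centCl s₀ = _
  congr 1
  -- the fiber is the orbit of s₀
  have hfib : (Finset.univ.filter (fun s => q s = O)) =
      (MulAction.orbit G s₀).toFinset := by
    ext s
    simp only [Finset.mem_filter, Finset.mem_univ, true_and, Set.mem_toFinset]
    rw [← setoid_iff_orbit]
    constructor
    · intro h; exact hrel s (by simp [h])
    · intro h
      have : q s₀ = q s := Quotient.sound h
      rw [← this, hs₀]; exact Quotient.out_eq (s := CommTuple.setoid G r) O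
  -- each centralizer has card |G| / |orbit|
  have hcard : ∀ s ∈ Finset.univ.filter (fun s => q s = O),
      (Fintype.card (MulAction.orbit G s₀) : ℚ) * (Nat.card (Subgroup.centralizer (Set.range s.1)) : ℚ)
        = (Nat.card G : ℚ) := by
    intro s hs
    have hso : MulAction.orbit G s = MulAction.orbit G s₀ := by
      apply MulAction.orbit_eq_iff.mpr
      rw [← setoid_iff_orbit]; exact hrel s hs
    have h2 := MulAction.card_orbit_mul_card_stabilizer_eq_card_group G s
    rw [← stabilizer_eq_centralizer s, Nat.card_eq_fintype_card, Nat.card_eq_fintype_card]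
    have h3 : Fintype.card (MulAction.orbit G s) = Fintype.card (MulAction.orbit G s₀) := by
      apply Fintype.card_congr
      rw [hso]
    rw [← h3]
    exact_mod_cast h2
  have hne : (Fintype.card (MulAction.orbit G s₀) : ℚ) ≠ 0 := by
    have : 0 < Fintype.card (MulAction.orbit G s₀) :=
      Fintype.card_pos_iff.mpr ⟨⟨s₀, MulAction.mem_orbit_self s₀⟩⟩
    exact_mod_cast this.ne'
  have hsum : (Fintype.card (MulAction.orbit G s₀) : ℚ) *
      ∑ s ∈ Finset.univ.filter (fun s => q s = O),
        (Nat.card (Subgroup.centralizer (Set.range s.1)) : ℚ) =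
      (Fintype.card (MulAction.orbit G s₀) : ℚ) * (Nat.card G : ℚ) := by
    rw [Finset.mul_sum, Finset.sum_congr rfl hcard, Finset.sum_const, nsmul_eq_mul, hfib,
      Set.toFinset_card]
  exact (mul_left_cancel₀ hne hsum).symm

section Iso
variable {G : Type u} {H : Type v} [Group G] [Group H] {r : ℕ}

/-- Transport of commuting tuples along a group isomorphism. -/
def mapTuple (e : G ≃* H) : CommTuple G r ≃ CommTuple H r where
  toFun s := ⟨fun i => e (s.1 i), fun i j h => s.2.1 (e.injective h), fun i j => by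
    show e (s.1 i) * e (s.1 j) = e (s.1 j) * e (s.1 i)
    rw [← map_mul, ← map_mul, (s.2.2 i j).eq]⟩
  invFun s := ⟨fun i => e.symm (s.1 i), fun i j h => s.2.1 (e.symm.injective h), fun i j => by
    show e.symm (s.1 i) * e.symm (s.1 j) = e.symm (s.1 j) * e.symm (s.1 i)
    rw [← map_mul, ← map_mul, (s.2.2 i j).eq]⟩
  left_inv s := by apply Subtype.ext; funext i; simp
  right_inv s := by apply Subtype.ext; funext i; simp

/-- Centralizers correspond under a group isomorphism. -/
noncomputable def centralizerMapEquiv (e : G ≃* H) (s : CommTuple G r) :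
    Subgroup.centralizer (Set.range s.1) ≃*
      Subgroup.centralizer (Set.range (mapTuple (r := r) e s).1) where
  toFun x := ⟨e x.1, by
    rw [Subgroup.mem_centralizer_iff]
    rintro _ ⟨i, rfl⟩
    have := (Subgroup.mem_centralizer_iff.mp x.2) (s.1 i) ⟨i, rfl⟩
    show e (s.1 i) * e x.1 = e x.1 * e (s.1 i)
    rw [← map_mul, ← map_mul, this]⟩
  invFun x := ⟨e.symm x.1, by
    rw [Subgroup.mem_centralizer_iff]
    rintro _ ⟨i, rfl⟩
    have := (Subgroup.mem_centralizer_iff.mp x.2) (e (s.1 i)) ⟨i, rfl⟩
    apply e.injective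
    rw [map_mul, map_mul]
    simpa using this⟩
  left_inv x := by apply Subtype.ext; simp
  right_inv x := by apply Subtype.ext; simp
  map_mul' x y := by apply Subtype.ext; simp

theorem inertiaROf_congr [Finite G] [Finite H] (e : G ≃* H) (r : ℕ) :
    inertiaROf r G = inertiaROf r H := by
  have hG := card_smul_inertiaROf G r
  have hH := card_smul_inertiaROf H r
  have hcard : (Nat.card G : ℚ) = (Nat.card H : ℚ) := by
    rw [Nat.card_congr e.toEquiv]
  have hne : (Nat.card G : ℚ) ≠ 0 := by
    have : 0 < Nat.card G := Nat.card_pos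
    exact_mod_cast this.ne'
  have hsum : ∑ᶠ s : CommTuple G r, (Nat.card (Subgroup.centralizer (Set.range s.1)) : ℚ) • centCl s =
      ∑ᶠ s : CommTuple H r, (Nat.card (Subgroup.centralizer (Set.range s.1)) : ℚ) • centCl s := by
    rw [← finsum_comp_equiv (mapTuple (r := r) e)]
    apply finsum_congr
    intro s
    have e2 := centralizerMapEquiv e s
    rw [Nat.card_congr e2.toEquiv]
    congr 1
    unfold centCl cl
    rw [idxOf_eq_of_mulEquiv e2]
  rw [hsum, ← hH, hcard] at hG
  rw [hcard] at hne
  exact smul_right_injective K hne hG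

end Iso

/-- `inertiaR r` on the class of any finite group. -/
theorem inertiaR_cl (G : Type u) [Group G] [Finite G] (r : ℕ) :
    inertiaR r (cl G) = inertiaROf r G := by
  unfold inertiaR cl
  rw [Finsupp.linearCombination_single, one_smul]
  exact inertiaROf_congr (repOfEquiv G) r

/-- The weighted class `|G| • [G]`. -/
noncomputable def wcl (G : Type u) [Group G] [Finite G] : K := (Nat.card G : ℚ) • cl G

theorem inertiaR_wcl (G : Type u) [Group G] [Finite G] (r : ℕ) :
    inertiaR r (wcl G) = ∑ᶠ s : CommTuple G r, wcl (Subgroup.centralizer (Set.range s.1)) := by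
  unfold wcl
  rw [map_smul, inertiaR_cl, card_smul_inertiaROf]
  rfl

theorem wcl_congr {G : Type u} {H : Type v} [Group G] [Group H] [Finite G] [Finite H] (e : G ≃* H) :
    wcl G = wcl H := by
  unfold wcl cl
  rw [Nat.card_congr e.toEquiv, idxOf_eq_of_mulEquiv e]

theorem single_eq_smul_wcl (i : Idx) :
    (Finsupp.single i 1 : K) = ((Nat.card i.rep : ℚ))⁻¹ • wcl i.rep := by
  have hne : (Nat.card i.rep : ℚ) ≠ 0 := by
    have : 0 < Nat.card i.rep := Nat.card_pos
    exact_mod_cast this.ne'
  unfold wcl
  rw [smul_smul, inv_mul_cancel₀ hne, one_smul, cl_rep]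

/-- To check that a linear map sends `supported S` into a submodule, check it on basis vectors. -/
theorem map_supported_le (T : K →ₗ[ℚ] K) (S : Set Idx) (p : Submodule ℚ K)
    (h : ∀ i ∈ S, T (Finsupp.single i 1) ∈ p) :
    ∀ v ∈ Finsupp.supported ℚ ℚ S, T v ∈ p := by
  intro v hv
  rw [Finsupp.supported_eq_span_single] at hv
  have : Submodule.span ℚ ((fun i => (Finsupp.single i 1 : K)) '' S) ≤ p.comap T := by
    rw [Submodule.span_le]
    rintro _ ⟨i, hi, rfl⟩
    exact h i hi
  exact this hv

theorem wcl_mem_supported {G : Type u} [Group G] [Finite G] (S : Set Idx) (h : Idx.of G ∈ S) :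
    wcl G ∈ Finsupp.supported ℚ ℚ S := by
  unfold wcl cl
  apply Submodule.smul_mem
  exact Finsupp.single_mem_supported ℚ 1 h

/-- If every centralizer class lies in `S`, then `inertiaR r` of the basis vector lies in `supported S`. -/
theorem inertiaR_single_mem (r : ℕ) (i : Idx) (S : Set Idx)
    (h : ∀ s : CommTuple i.rep r, Idx.of (Subgroup.centralizer (Set.range s.1)) ∈ S) :
    inertiaR r (Finsupp.single i 1) ∈ Finsupp.supported ℚ ℚ S := by
  rw [single_eq_smul_wcl, map_smul]
  apply Submodule.smul_mem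
  rw [inertiaR_wcl]
  apply finsum_induction (fun x => x ∈ Finsupp.supported ℚ ℚ S)
  · exact Submodule.zero_mem _
  · intro x y hx hy; exact Submodule.add_mem _ hx hy
  · intro s; exact wcl_mem_supported S (h s)

theorem inertiaR_mem_Kle (r n : ℕ) (v : K) (hv : v ∈ Kle n) : inertiaR r v ∈ Kle n := by
  refine map_supported_le (inertiaR r) _ (Kle n) ?_ v hv
  intro i hi
  apply inertiaR_single_mem
  intro s
  show (Idx.of _).card ≤ n
  rw [card_idxOf]
  have h1 : Nat.card (Subgroup.centralizer (Set.range s.1)) ≤ Nat.card i.rep :=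
    Subgroup.card_le_card_group _
  exact h1.trans hi

section Central
variable {G : Type u} [Group G] {r : ℕ}

/-- A tuple is central if all its entries are. -/
def IsCentralTuple (s : CommTuple G r) : Prop := ∀ i, s.1 i ∈ Subgroup.center G

/-- Central commuting tuples are injective tuples in the centre. -/
def centralTupleEquiv : {s : CommTuple G r // IsCentralTuple s} ≃ (Fin r ↪ Subgroup.center G) where
  toFun s := ⟨fun i => ⟨s.1.1 i, s.2 i⟩, fun i j h => s.1.2.1 (congrArg Subtype.val h)⟩
  invFun f := ⟨⟨fun i => (f i).1, fun i j h => f.injective (Subtype.ext h), fun i j =>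
    (Subgroup.mem_center_iff.mp (f i).2 (f j).1).symm⟩, fun i => (f i).2⟩
  left_inv s := rfl
  right_inv f := rfl

theorem wcl_centralizer_of_central [Finite G] (s : CommTuple G r) (hs : IsCentralTuple s) :
    wcl (Subgroup.centralizer (Set.range s.1)) = wcl G := by
  have htop : Subgroup.centralizer (Set.range s.1) = ⊤ := by
    rw [Subgroup.centralizer_eq_top_iff_subset]
    rintro _ ⟨i, rfl⟩
    exact hs i
  have e : Subgroup.centralizer (Set.range s.1) ≃* G :=
    (MulEquiv.subgroupCongr htop).trans Subgroup.topEquiv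
  exact wcl_congr e

theorem card_center_centralizer_gt [Finite G] (s : CommTuple G r) (hs : ¬ IsCentralTuple s) :
    Nat.card (Subgroup.center G) + 1 ≤
      Nat.card (Subgroup.center (Subgroup.centralizer (Set.range s.1))) := by
  classical
  set C := Subgroup.centralizer (Set.range s.1) with hC
  set A : Set G := Subtype.val '' ((Subgroup.center C : Subgroup C) : Set C) with hA
  have hcardA : Nat.card (Subgroup.center C) = A.ncard := by
    rw [hA, Set.ncard_image_of_injective _ Subtype.val_injective]
    exact (Nat.card_coe_set_eq _)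
  have hcardZ : Nat.card (Subgroup.center G) = ((Subgroup.center G : Subgroup G) : Set G).ncard :=
    (Nat.card_coe_set_eq _)
  rw [hcardA, hcardZ]
  apply Nat.succ_le_of_lt
  apply Set.ncard_lt_ncard _ (Set.toFinite A)
  unfold IsCentralTuple at hs
  push Not at hs
  obtain ⟨j, hj⟩ := hs
  refine ⟨?_, ?_⟩
  · intro z hz
    have hzC : z ∈ C := by
      rw [hC, Subgroup.mem_centralizer_iff]
      intro h _
      exact (Subgroup.mem_center_iff.mp hz h)
    refine ⟨⟨z, hzC⟩, ?_, rfl⟩
    show (⟨z, hzC⟩ : C) ∈ Subgroup.center C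
    rw [Subgroup.mem_center_iff]
    intro g
    apply Subtype.ext
    exact Subgroup.mem_center_iff.mp hz g.1
  · intro hsub
    apply hj
    apply hsub
    have hsC : s.1 j ∈ C := by
      rw [hC, Subgroup.mem_centralizer_iff]
      rintro _ ⟨i, rfl⟩
      exact (s.2.2 i j).eq
    refine ⟨⟨s.1 j, hsC⟩, ?_, rfl⟩
    show (⟨s.1 j, hsC⟩ : C) ∈ Subgroup.center C
    rw [Subgroup.mem_center_iff]
    intro g
    apply Subtype.ext
    show g.1 * s.1 j = s.1 j * g.1
    exact ((Subgroup.mem_centralizer_iff.mp g.2) (s.1 j) ⟨j, rfl⟩).symm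

end Central

theorem Kge_anti {a b : ℕ} (h : a ≤ b) : Kge b ≤ Kge a := by
  apply Finsupp.supported_mono
  intro j hj
  exact le_trans h hj

/-- Key computation: on the basis vector of a group with centre of order `c`, `inertiaR r` is
`c.descFactorial r` modulo classes with larger centre. -/
theorem inertiaR_wcl_sub_mem (G : Type u) [Group G] [Finite G] (r : ℕ) :
    inertiaR r (wcl G) - ((Nat.card (Subgroup.center G)).descFactorial r : ℚ) • wcl G ∈
      Kge (Nat.card (Subgroup.center G) + 1) := by
  classical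
  have : Fintype G := Fintype.ofFinite G
  have : Fintype (CommTuple G r) := Fintype.ofFinite _
  rw [inertiaR_wcl, finsum_eq_sum_of_fintype]
  rw [← Finset.sum_filter_add_sum_filter_not Finset.univ (fun s : CommTuple G r => IsCentralTuple s)]
  have h1 : ∑ s ∈ Finset.univ.filter (fun s : CommTuple G r => IsCentralTuple s),
      wcl (Subgroup.centralizer (Set.range s.1)) =
      ((Nat.card (Subgroup.center G)).descFactorial r : ℚ) • wcl G := by
    rw [Finset.sum_congr rfl (fun s hs => wcl_centralizer_of_central s (Finset.mem_filter.mp hs).2)]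
    rw [Finset.sum_const, ← Nat.cast_smul_eq_nsmul ℚ]
    congr 2
    rw [← Fintype.card_subtype, Fintype.card_congr centralTupleEquiv, Fintype.card_embedding_eq,
      Fintype.card_fin, Nat.card_eq_fintype_card]
  rw [h1, add_sub_cancel_left]
  apply Submodule.sum_mem
  intro s hs
  apply wcl_mem_supported
  show _ ≤ (Idx.of _).centerCard
  rw [centerCard_idxOf]
  exact card_center_centralizer_gt s (Finset.mem_filter.mp hs).2

theorem inertiaR_sub_smul_mem_Kge (r k : ℕ) (v : K) (hv : v ∈ Kge k) :
    inertiaR r v - ((Nat.factorial r * Nat.choose k r : ℕ) : ℚ) • v ∈ Kge (k + 1) := by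
  rw [← Nat.descFactorial_eq_factorial_mul_choose]
  have key : ∀ v ∈ Finsupp.supported ℚ ℚ {j : Idx | k ≤ j.centerCard},
      (inertiaR r - ((k.descFactorial r : ℕ) : ℚ) • (LinearMap.id : K →ₗ[ℚ] K)) v ∈ Kge (k + 1) := by
    apply map_supported_le
    intro i hi
    have hi' : k ≤ i.centerCard := hi
    simp only [LinearMap.sub_apply, LinearMap.smul_apply, LinearMap.id_coe, id_eq]
    rw [single_eq_smul_wcl, map_smul, ← smul_comm, ← smul_sub]
    apply Submodule.smul_mem
    have hc : Nat.card (Subgroup.center i.rep) = i.centerCard := rfl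
    have hmain := inertiaR_wcl_sub_mem i.rep r
    rw [hc] at hmain
    rcases Nat.eq_or_lt_of_le hi' with heq | hlt
    · rw [heq]; exact hmain
    · have h2 : wcl i.rep ∈ Kge (k + 1) := by
        apply wcl_mem_supported
        show k + 1 ≤ (Idx.of i.rep).centerCard
        rw [idxOf_rep]; exact hlt
      have h3 : inertiaR r (wcl i.rep) - ((i.centerCard.descFactorial r : ℕ) : ℚ) • wcl i.rep ∈ Kge (k + 1) :=
        Kge_anti (by omega) hmain
      have : inertiaR r (wcl i.rep) - ((k.descFactorial r : ℕ) : ℚ) • wcl i.rep =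
          (inertiaR r (wcl i.rep) - ((i.centerCard.descFactorial r : ℕ) : ℚ) • wcl i.rep) +
          (((i.centerCard.descFactorial r : ℕ) : ℚ) - ((k.descFactorial r : ℕ) : ℚ)) • wcl i.rep := by
        rw [sub_smul]; abel
      rw [this]
      exact Submodule.add_mem _ h3 (Submodule.smul_mem _ _ h2)
  exact key v hv

open Polynomial

section PolyKer
variable {R : Type*} [CommRing R] {M : Type*} [AddCommGroup M] [Module R M]

theorem ker_aeval_prod_eq_iSup {ι : Type*} (f : M →ₗ[R] M) (s : Finset ι) (p : ι → R[X])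
    (h : (s : Set ι).Pairwise (fun i j => IsCoprime (p i) (p j))) :
    LinearMap.ker (aeval f (∏ i ∈ s, p i)) = ⨆ i ∈ s, LinearMap.ker (aeval f (p i)) := by
  classical
  induction s using Finset.induction_on with
  | empty =>
    simp only [Finset.prod_empty, map_one, Finset.notMem_empty, iSup_false, iSup_bot]
    exact LinearMap.ker_id
  | insert a s ha ih =>
    rw [Finset.prod_insert ha, Finset.iSup_insert]
    have hcop : IsCoprime (p a) (∏ i ∈ s, p i) := by
      apply IsCoprime.prod_right
      intro i hi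
      apply h (Finset.mem_coe.mpr (Finset.mem_insert_self a s))
        (Finset.mem_coe.mpr (Finset.mem_insert_of_mem hi))
      rintro rfl; exact ha hi
    rw [← sup_ker_aeval_eq_ker_aeval_mul_of_coprime f hcop, ih]
    intro i hi j hj hij
    exact h (Finset.mem_coe.mpr (Finset.mem_insert_of_mem hi))
      (Finset.mem_coe.mpr (Finset.mem_insert_of_mem hj)) hij

end PolyKer

theorem ker_aeval_X_sub_C (T : K →ₗ[ℚ] K) (μ : ℚ) :
    LinearMap.ker (aeval T (X - C μ)) = Module.End.eigenspace T μ := by
  rw [Module.End.eigenspace_def]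
  congr 1
  simp [Algebra.algebraMap_eq_smul_one]

theorem coprime_X_sub_C_nat {a b : ℕ} (h : a ≠ b) :
    IsCoprime (X - C (a : ℚ)) (X - C (b : ℚ)) := by
  apply Polynomial.isCoprime_X_sub_C_of_isUnit_sub
  apply IsUnit.mk0
  intro h0
  apply h
  have : (a : ℚ) = b := sub_eq_zero.mp h0
  exact_mod_cast this

theorem Kge_one_eq_top : Kge 1 = ⊤ := by
  rw [eq_top_iff]
  intro v _
  show v ∈ Finsupp.supported ℚ ℚ _
  rw [Finsupp.mem_supported]
  intro j _
  show 1 ≤ j.centerCard
  exact Nat.card_pos

theorem Kge_inf_Kle (n : ℕ) : Kge (n + 1) ⊓ Kle n = ⊥ := by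
  unfold Kge Kle
  rw [← Finsupp.supported_inter]
  have : ({j : Idx | n + 1 ≤ j.centerCard} ∩ {i : Idx | i.card ≤ n}) = ∅ := by
    ext j
    simp only [Set.mem_inter_iff, Set.mem_ofPred_eq, Set.mem_empty_iff_false, iff_false, not_and]
    intro h1 h2
    have : j.centerCard ≤ j.card := Subgroup.card_le_card_group _
    omega
  rw [this, Finsupp.supported_empty]

theorem exists_mem_Kle (v : K) : ∃ n, v ∈ Kle n := by
  refine ⟨v.support.sup Idx.card, ?_⟩
  show v ∈ Finsupp.supported ℚ ℚ _
  rw [Finsupp.mem_supported]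
  intro j hj
  exact Finset.le_sup (f := Idx.card) hj

theorem Kle_mono {a b : ℕ} (h : a ≤ b) : Kle a ≤ Kle b := by
  apply Finsupp.supported_mono
  intro j hj
  exact le_trans hj h

theorem inertia_sub_mem_Kge (k : ℕ) (v : K) (hv : v ∈ Kge k) :
    inertia v - (k : ℚ) • v ∈ Kge (k + 1) := by
  have := inertiaR_sub_smul_mem_Kge 1 k v hv
  simpa using this

/-- The polynomial `∏_{k=1}^{n} (X - k)`. -/
noncomputable def annPoly (n : ℕ) : ℚ[X] := ∏ k ∈ Finset.Icc 1 n, (X - C (k : ℚ))

theorem aeval_prod_mem (n : ℕ) (v : K) (hv : v ∈ Kle n) :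
    ∀ j, aeval inertia (∏ k ∈ Finset.Icc 1 j, (X - C (k : ℚ))) v ∈ Kge (j + 1) ⊓ Kle n := by
  intro j
  induction j with
  | zero =>
    simp only [Finset.Icc_eq_empty_of_lt Nat.zero_lt_one, Finset.prod_empty, map_one]
    rw [Kge_one_eq_top]
    exact ⟨trivial, hv⟩
  | succ j ih =>
    rw [Finset.prod_Icc_succ_top (by omega), mul_comm, map_mul]
    set w := aeval inertia (∏ k ∈ Finset.Icc 1 j, (X - C (k : ℚ))) v with hw
    have hw1 : w ∈ Kge (j + 1) := ih.1
    have hw2 : w ∈ Kle n := ih.2
    have : aeval inertia (X - C ((j + 1 : ℕ) : ℚ)) w = inertia w - ((j + 1 : ℕ) : ℚ) • w := by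
      rw [map_sub, aeval_X, aeval_C, LinearMap.sub_apply, Algebra.algebraMap_eq_smul_one,
        LinearMap.smul_apply, Module.End.one_apply]
    rw [Module.End.mul_apply, this]
    refine ⟨inertia_sub_mem_Kge (j + 1) w hw1, ?_⟩
    exact Submodule.sub_mem _ (inertiaR_mem_Kle 1 n w hw2) (Submodule.smul_mem _ _ hw2)

theorem aeval_annPoly_eq_zero (n : ℕ) (v : K) (hv : v ∈ Kle n) :
    aeval inertia (annPoly n) v = 0 := by
  have := aeval_prod_mem n v hv n
  rw [Kge_inf_Kle] at this
  exact (Submodule.mem_bot ℚ).mp this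

theorem ker_annPoly (n : ℕ) :
    LinearMap.ker (aeval inertia (annPoly n)) =
      ⨆ k ∈ Finset.Icc 1 n, Module.End.eigenspace inertia (k : ℚ) := by
  unfold annPoly
  rw [ker_aeval_prod_eq_iSup]
  · simp only [ker_aeval_X_sub_C]
  · intro a _ b _ hab
    exact coprime_X_sub_C_nat hab

theorem iSup_eigenspace_inertia : (⨆ n : ℕ, Module.End.eigenspace inertia (n : ℚ)) = ⊤ := by
  rw [eq_top_iff]
  intro v _
  obtain ⟨n, hn⟩ := exists_mem_Kle v
  have h1 : v ∈ LinearMap.ker (aeval inertia (annPoly n)) :=
    LinearMap.mem_ker.mpr (aeval_annPoly_eq_zero n v hn)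
  rw [ker_annPoly] at h1
  refine (?_ : (⨆ k ∈ Finset.Icc 1 n, Module.End.eigenspace inertia (k : ℚ)) ≤ _) h1
  exact iSup₂_le fun k _ => le_iSup (fun n : ℕ => Module.End.eigenspace inertia (n : ℚ)) k

theorem aeval_apply_of_eigen (T : K →ₗ[ℚ] K) (μ : ℚ) (v : K) (hv : T v = μ • v) (p : ℚ[X]) :
    aeval T p v = p.eval μ • v := by
  induction p using Polynomial.induction_on' with
  | add p q hp hq => simp [hp, hq, add_smul]
  | monomial n a =>
    simp only [aeval_monomial, eval_monomial, Module.End.mul_apply]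
    have hpow : ∀ n : ℕ, (T ^ n) v = μ ^ n • v := by
      intro n
      induction n with
      | zero => simp
      | succ n ih => rw [pow_succ, Module.End.mul_apply, hv, map_smul, ih, smul_smul, pow_succ, mul_comm]
    rw [hpow, Algebra.algebraMap_eq_smul_one, LinearMap.smul_apply, Module.End.one_apply, smul_smul]

theorem eval_annPoly (n : ℕ) (μ : ℚ) : (annPoly n).eval μ = ∏ k ∈ Finset.Icc 1 n, (μ - (k : ℚ)) := by
  unfold annPoly
  rw [eval_prod]
  simp

theorem eigenvalue_is_pos_nat (μ : ℚ) (h : Module.End.HasEigenvalue inertia μ) :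
    ∃ n : ℕ, 0 < n ∧ μ = (n : ℚ) := by
  obtain ⟨v, hv⟩ := h.exists_hasEigenvector
  obtain ⟨n, hn⟩ := exists_mem_Kle v
  have h0 := aeval_annPoly_eq_zero n v hn
  rw [aeval_apply_of_eigen inertia μ v (Module.End.mem_eigenspace_iff.mp hv.1)] at h0
  have h1 : (annPoly n).eval μ = 0 := by
    rcases smul_eq_zero.mp h0 with h | h
    · exact h
    · exact absurd h hv.2
  rw [eval_annPoly, Finset.prod_eq_zero_iff] at h1
  obtain ⟨k, hk, hk0⟩ := h1
  refine ⟨k, ?_, sub_eq_zero.mp hk0⟩
  have := (Finset.mem_Icc.mp hk).1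
  omega

theorem wcl_ne_zero (G : Type u) [Group G] [Finite G] : wcl G ≠ 0 := by
  unfold wcl cl
  intro h
  have hne : (Nat.card G : ℚ) ≠ 0 := by
    have : 0 < Nat.card G := Nat.card_pos
    exact_mod_cast this.ne'
  rcases smul_eq_zero.mp h with h | h
  · exact hne h
  · rw [Finsupp.single_eq_zero] at h
    exact one_ne_zero h

theorem pos_nat_is_eigenvalue (n : ℕ) (hn : 0 < n) : Module.End.HasEigenvalue inertia (n : ℚ) := by
  haveI : NeZero n := ⟨hn.ne'⟩
  let G := Multiplicative (ZMod n)
  have hcard : Nat.card G = n := by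
    show Nat.card (Multiplicative (ZMod n)) = n
    rw [Nat.card_eq_fintype_card, Fintype.card_multiplicative, ZMod.card]
  have hcenter : Nat.card (Subgroup.center G) = n := by
    have : Subgroup.center G = ⊤ := CommGroup.center_eq_top
    rw [this, Subgroup.card_top, hcard]
  have h1 := inertiaR_wcl_sub_mem G 1
  rw [hcenter] at h1
  have hmem : wcl G ∈ Kle n := by
    apply wcl_mem_supported
    show (Idx.of G).card ≤ n
    rw [card_idxOf, hcard]
  have h2 : inertiaR 1 (wcl G) - ((n.descFactorial 1 : ℕ) : ℚ) • wcl G ∈ Kle n :=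
    Submodule.sub_mem _ (inertiaR_mem_Kle 1 n _ hmem) (Submodule.smul_mem _ _ hmem)
  have h3 : inertiaR 1 (wcl G) - ((n.descFactorial 1 : ℕ) : ℚ) • wcl G ∈ Kge (n + 1) ⊓ Kle n := ⟨h1, h2⟩
  rw [Kge_inf_Kle, Submodule.mem_bot, Nat.descFactorial_one, sub_eq_zero] at h3
  apply Module.End.hasEigenvalue_of_hasEigenvector (x := wcl G)
  exact ⟨Module.End.mem_eigenspace_iff.mpr h3, wcl_ne_zero G⟩

section Sub
variable {G : Type u} [Group G] (H : Subgroup G) {r : ℕ}

/-- Commuting tuples of a subgroup are commuting tuples of the group with entries in the subgroup. -/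
def liftTuple : CommTuple H r ≃ {t : CommTuple G r // ∀ i, t.1 i ∈ H} where
  toFun s := ⟨⟨fun i => (s.1 i : G), fun i j h => s.2.1 (Subtype.ext h), fun i j => by
    have := (s.2.2 i j).eq
    show (s.1 i : G) * (s.1 j : G) = (s.1 j : G) * (s.1 i : G)
    exact_mod_cast congrArg Subtype.val this⟩, fun i => (s.1 i).2⟩
  invFun t := ⟨fun i => ⟨t.1.1 i, t.2 i⟩, fun i j h => t.1.2.1 (congrArg Subtype.val h), fun i j => by
    show (⟨t.1.1 i, t.2 i⟩ : H) * ⟨t.1.1 j, t.2 j⟩ = ⟨t.1.1 j, t.2 j⟩ * ⟨t.1.1 i, t.2 i⟩
    apply Subtype.ext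
    exact (t.1.2.2 i j).eq⟩
  left_inv s := rfl
  right_inv t := rfl

/-- The centralizer inside a subgroup, as a subgroup of the big group. -/
noncomputable def centralizerSubEquiv (s : CommTuple H r) :
    Subgroup.centralizer (Set.range s.1) ≃*
      ↥(H ⊓ Subgroup.centralizer (Set.range (liftTuple H s).1.1)) where
  toFun x := ⟨x.1.1, Subgroup.mem_inf.mpr ⟨x.1.2, by
    rw [Subgroup.mem_centralizer_iff]
    rintro _ ⟨i, rfl⟩
    have := (Subgroup.mem_centralizer_iff.mp x.2) (s.1 i) ⟨i, rfl⟩
    exact congrArg Subtype.val this⟩⟩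
  invFun y := ⟨⟨y.1, (Subgroup.mem_inf.mp y.2).1⟩, by
    rw [Subgroup.mem_centralizer_iff]
    rintro _ ⟨i, rfl⟩
    have := (Subgroup.mem_centralizer_iff.mp (Subgroup.mem_inf.mp y.2).2) (s.1 i : G) ⟨i, rfl⟩
    exact Subtype.ext this⟩
  left_inv x := rfl
  right_inv y := rfl
  map_mul' x y := rfl

theorem inertiaR_wcl_subgroup [Finite G] (r : ℕ) :
    inertiaR r (wcl H) = ∑ᶠ t : {t : CommTuple G r // ∀ i, t.1 i ∈ H},
      wcl ↥(H ⊓ Subgroup.centralizer (Set.range t.1.1)) := by
  rw [inertiaR_wcl, ← finsum_comp_equiv (liftTuple H (r := r))]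
  apply finsum_congr
  intro s
  exact wcl_congr (centralizerSubEquiv H s)

end Sub

section Rec
variable {G : Type u} [Group G] {r : ℕ}

theorem centralizer_singleton_inf (a : G) (S : Set G) :
    Subgroup.centralizer {a} ⊓ Subgroup.centralizer S = Subgroup.centralizer (insert a S) := by
  ext g
  simp only [Subgroup.mem_inf, Subgroup.mem_centralizer_iff, Set.mem_singleton_iff, forall_eq,
    Set.mem_insert_iff, forall_eq_or_imp]

theorem inertiaR_wcl_centralizer_singleton [Finite G] (a : G) (r : ℕ) :
    inertiaR r (wcl (Subgroup.centralizer ({a} : Set G))) =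
      ∑ᶠ t : {t : CommTuple G r // ∀ i, t.1 i ∈ Subgroup.centralizer ({a} : Set G)},
        wcl ↥(Subgroup.centralizer (insert a (Set.range t.1.1))) := by
  rw [inertiaR_wcl_subgroup]
  apply finsum_congr
  intro t
  exact wcl_congr (MulEquiv.subgroupCongr (centralizer_singleton_inf a _))

/-- 1-tuples are elements. -/
def oneTupleEquiv : CommTuple G 1 ≃ G where
  toFun s := s.1 0
  invFun a := ⟨fun _ => a, fun i j _ => Subsingleton.elim i j, fun _ _ => Commute.refl a⟩
  left_inv s := by
    apply Subtype.ext; funext i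
    have : i = 0 := Subsingleton.elim i 0
    rw [this]
  right_inv a := rfl

theorem inertia_wcl [Finite G] :
    inertiaR 1 (wcl G) = ∑ᶠ a : G, wcl ↥(Subgroup.centralizer ({a} : Set G)) := by
  rw [inertiaR_wcl, ← finsum_comp_equiv (oneTupleEquiv (G := G)).symm]
  apply finsum_congr
  intro a
  have h : Set.range ((oneTupleEquiv (G := G)).symm a).1 = {a} := Set.range_const
  exact wcl_congr (MulEquiv.subgroupCongr (by rw [h]))

end Rec

section Rec2
variable {G : Type u} [Group G] {r : ℕ}

/-- The tail of a commuting tuple. -/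
def tailTuple (s : CommTuple G (r + 1)) : CommTuple G r :=
  ⟨Fin.tail s.1, fun _ _ h => Fin.succ_injective _ (s.2.1 h), fun i j => s.2.2 i.succ j.succ⟩

/-- Prepending an element to a commuting tuple. -/
def consTuple (a : G) (t : CommTuple G r) (h1 : a ∉ Set.range t.1) (h2 : ∀ i, Commute a (t.1 i)) :
    CommTuple G (r + 1) :=
  ⟨Fin.cons a t.1, Fin.cons_injective_of_injective h1 t.2.1, by
    intro i j
    cases i using Fin.cases with
    | zero =>
      cases j using Fin.cases with
      | zero => exact Commute.refl _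
      | succ j => simpa using h2 j
    | succ i =>
      cases j using Fin.cases with
      | zero => simpa using (h2 i).symm
      | succ j => simpa using t.2.2 i j⟩

/-- notation: the weighted class of the centralizer of a set -/
noncomputable def zcl [Finite G] (S : Set G) : K := wcl ↥(Subgroup.centralizer S)

theorem zcl_congr [Finite G] {S T : Set G} (h : S = T) : zcl S = zcl T := by rw [h]

theorem inertiaR_wcl' [Finite G] (r : ℕ) :
    inertiaR r (wcl G) = ∑ᶠ s : CommTuple G r, zcl (Set.range s.1) := inertiaR_wcl G r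

theorem mem_centralizer_singleton (a g : G) : g ∈ Subgroup.centralizer ({a} : Set G) ↔ Commute a g := by
  rw [Subgroup.mem_centralizer_iff]
  simp only [Set.mem_singleton_iff, forall_eq]
  rfl

theorem inertiaR_succ_wcl [Finite G] (r : ℕ) :
    inertiaR r (inertiaR 1 (wcl G)) = inertiaR (r + 1) (wcl G) + (r : ℚ) • inertiaR r (wcl G) := by
  classical
  have : Fintype G := Fintype.ofFinite G
  have : Fintype (CommTuple G r) := Fintype.ofFinite _
  have : Fintype (CommTuple G (r + 1)) := Fintype.ofFinite _
  -- left-hand side as a double sum with a condition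
  have hL : inertiaR r (inertiaR 1 (wcl G)) =
      ∑ a : G, ∑ t : CommTuple G r,
        if (∀ i, Commute a (t.1 i)) then zcl (insert a (Set.range t.1)) else 0 := by
    rw [inertia_wcl, finsum_eq_sum_of_fintype, map_sum]
    apply Finset.sum_congr rfl
    intro a _
    rw [inertiaR_wcl_centralizer_singleton]
    have : Fintype {t : CommTuple G r // ∀ i, t.1 i ∈ Subgroup.centralizer ({a} : Set G)} :=
      Fintype.ofFinite _
    rw [finsum_eq_sum_of_fintype, ← Finset.sum_filter]
    have hfilter : ∀ t : CommTuple G r, t ∈ Finset.univ.filter (fun t : CommTuple G r => ∀ i, Commute a (t.1 i)) ↔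
        ∀ i, t.1 i ∈ Subgroup.centralizer ({a} : Set G) := by
      intro t
      simp only [Finset.mem_filter, Finset.mem_univ, true_and, mem_centralizer_singleton]
    rw [Finset.sum_subtype _ hfilter]
    rfl
  rw [hL, inertiaR_wcl' (r + 1), inertiaR_wcl' r, finsum_eq_sum_of_fintype, finsum_eq_sum_of_fintype]
  -- split according to whether `a` is an entry of `t`
  have hsplit : ∀ (a : G) (t : CommTuple G r),
      (if (∀ i, Commute a (t.1 i)) then zcl (insert a (Set.range t.1)) else 0) =
      (if ((∀ i, Commute a (t.1 i)) ∧ a ∉ Set.range t.1) then zcl (insert a (Set.range t.1)) else 0) +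
      (if a ∈ Set.range t.1 then zcl (Set.range t.1) else 0) := by
    intro a t
    by_cases hmem : a ∈ Set.range t.1
    · have hcomm : ∀ i, Commute a (t.1 i) := by
        obtain ⟨j, rfl⟩ := hmem
        exact fun i => t.2.2 j i
      rw [if_pos hcomm, if_neg (by tauto), if_pos hmem, zero_add, Set.insert_eq_of_mem hmem]
    · by_cases hcomm : ∀ i, Commute a (t.1 i)
      · rw [if_pos hcomm, if_pos ⟨hcomm, hmem⟩, if_neg hmem, add_zero]
      · rw [if_neg hcomm, if_neg (by tauto), if_neg hmem, add_zero]
  simp_rw [hsplit, Finset.sum_add_distrib]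
  congr 1
  · -- the part with `a ∉ range t` is the sum over (r+1)-tuples
    rw [← Finset.sum_product', ← Finset.sum_filter]
    symm
    refine Finset.sum_bij (fun (s : CommTuple G (r + 1)) _ => ((s.1 0, tailTuple s) : G × CommTuple G r))
      ?_ ?_ ?_ ?_
    · intro s _
      simp only [Finset.mem_filter, Finset.mem_product, Finset.mem_univ, true_and]
      refine ⟨fun i => s.2.2 0 i.succ, ?_⟩
      rintro ⟨i, hi⟩
      have := s.2.1 (hi : s.1 i.succ = s.1 0)
      exact Fin.succ_ne_zero i this
    · intro s _ s' _ h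
      simp only [Prod.mk.injEq] at h
      apply Subtype.ext
      funext i
      cases i using Fin.cases with
      | zero => exact h.1
      | succ i => exact congrFun (congrArg Subtype.val h.2) i
    · intro p hp
      simp only [Finset.mem_filter, Finset.mem_product, Finset.mem_univ, true_and] at hp
      refine ⟨consTuple p.1 p.2 hp.2 hp.1, Finset.mem_univ _, ?_⟩
      apply Prod.ext
      · simp [consTuple]
      · apply Subtype.ext
        simp [consTuple, tailTuple]
    · intro s _
      apply zcl_congr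
      show Set.range s.1 = insert (s.1 0) (Set.range (Fin.tail s.1))
      rw [← Fin.range_cons, Fin.cons_self_tail]
  · -- the part with `a ∈ range t` gives `r` copies
    rw [Finset.sum_comm, Finset.smul_sum]
    apply Finset.sum_congr rfl
    intro t _
    rw [← Finset.sum_filter, Finset.sum_const, ← Nat.cast_smul_eq_nsmul ℚ]
    congr 2
    have : Finset.univ.filter (fun a => a ∈ Set.range t.1) = Finset.univ.image t.1 := by
      ext a
      simp [eq_comm]
    rw [this, Finset.card_image_of_injective _ t.2.1, Finset.card_univ, Fintype.card_fin]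

end Rec2

theorem lhom_ext_wcl {T T' : K →ₗ[ℚ] K} (h : ∀ i : Idx, T (wcl i.rep) = T' (wcl i.rep)) : T = T' := by
  apply Finsupp.lhom_ext
  intro i b
  have : (Finsupp.single i b : K) = b • Finsupp.single i 1 := by
    rw [Finsupp.smul_single, smul_eq_mul, mul_one]
  rw [this, map_smul, map_smul, single_eq_smul_wcl, map_smul, map_smul, h]

theorem inertiaR_zero : inertiaR 0 = LinearMap.id := by
  apply lhom_ext_wcl
  intro i
  rw [inertiaR_wcl', LinearMap.id_apply]
  have : Unique (CommTuple i.rep 0) :=
    { default := ⟨Fin.elim0, fun i => i.elim0, fun i => i.elim0⟩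
      uniq := fun s => Subtype.ext (funext fun i => i.elim0) }
  rw [finsum_unique]
  have h : Subgroup.centralizer (Set.range (default : CommTuple i.rep 0).1) = ⊤ := by
    rw [Subgroup.centralizer_eq_top_iff_subset]
    rintro _ ⟨j, rfl⟩
    exact j.elim0
  exact wcl_congr ((MulEquiv.subgroupCongr h).trans Subgroup.topEquiv)

theorem inertiaR_succ (r : ℕ) :
    inertiaR (r + 1) = inertiaR r ∘ₗ (inertia - (r : ℚ) • LinearMap.id) := by
  apply lhom_ext_wcl
  intro i
  have := inertiaR_succ_wcl (G := i.rep) r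
  simp only [LinearMap.comp_apply, LinearMap.sub_apply, LinearMap.smul_apply, LinearMap.id_apply,
    map_sub, map_smul]
  rw [this]
  abel

theorem inertiaR_eq_aeval (r : ℕ) : inertiaR r = aeval inertia (descPochhammer ℚ r) := by
  induction r with
  | zero => rw [inertiaR_zero, descPochhammer_zero, map_one]; rfl
  | succ r ih =>
    rw [inertiaR_succ, descPochhammer_succ_right, map_mul, ih, map_sub, aeval_X, map_natCast]
    rfl

theorem eigenspace_inertia_le (k r : ℕ) :
    Module.End.eigenspace inertia (k : ℚ) ≤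
      Module.End.eigenspace (inertiaR r) ((Nat.factorial r * Nat.choose k r : ℕ) : ℚ) := by
  intro v hv
  rw [Module.End.mem_eigenspace_iff] at hv ⊢
  rw [inertiaR_eq_aeval, aeval_apply_of_eigen inertia k v hv, descPochhammer_eval_eq_descFactorial,
    Nat.descFactorial_eq_factorial_mul_choose]

theorem descPochhammer_eq_prod (r : ℕ) :
    descPochhammer ℚ r = ∏ k ∈ Finset.range r, (X - C (k : ℚ)) := by
  induction r with
  | zero => simp
  | succ r ih => rw [descPochhammer_succ_right, ih, Finset.prod_range_succ, map_natCast]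

theorem ker_inertiaR (r : ℕ) :
    LinearMap.ker (inertiaR r) = ⨆ k ∈ Finset.range r, Module.End.eigenspace inertia (k : ℚ) := by
  rw [inertiaR_eq_aeval, descPochhammer_eq_prod, ker_aeval_prod_eq_iSup]
  · simp only [ker_aeval_X_sub_C]
  · intro a _ b _ hab
    exact coprime_X_sub_C_nat hab

/-- Binomial inversion in the form needed. -/
theorem binom_inversion (m k : ℕ) :
    ∑ r ∈ Finset.range (m + 1), ((-1 : ℚ) ^ (r + k)) * (Nat.choose r k : ℚ) * (Nat.choose m r : ℚ) =
      if m = k then 1 else 0 := by
  have h1 : ((-X : ℚ[X]) ^ m) = ∑ r ∈ Finset.range (m + 1), (-(1 + X) : ℚ[X]) ^ r * 1 ^ (m - r) * (Nat.choose m r : ℚ[X]) := by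
    rw [← add_pow]
    congr 1
    ring
  have h2 := congrArg (fun p : ℚ[X] => p.coeff k) h1
  simp only [finsetSum_coeff] at h2
  have hL : ((-X : ℚ[X]) ^ m).coeff k = if m = k then (-1 : ℚ) ^ m else 0 := by
    rw [neg_pow, ← C_1, ← C_neg, ← C_pow, coeff_C_mul, coeff_X_pow]
    split_ifs with h h' h'
    · simp
    · exact absurd h.symm h'
    · exact absurd h'.symm h
    · simp
  have hR : ∀ r, ((-(1 + X) : ℚ[X]) ^ r * 1 ^ (m - r) * (Nat.choose m r : ℚ[X])).coeff k =
      (-1 : ℚ) ^ r * (Nat.choose r k : ℚ) * (Nat.choose m r : ℚ) := by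
    intro r
    rw [one_pow, mul_one, neg_pow, mul_assoc, ← C_1, ← C_neg, ← C_pow, coeff_C_mul,
      ← C_eq_natCast, coeff_mul_C, C_1, coeff_one_add_X_pow]
    ring
  rw [hL] at h2
  simp_rw [hR] at h2
  have h3 : ∑ r ∈ Finset.range (m + 1), ((-1 : ℚ) ^ (r + k)) * (Nat.choose r k : ℚ) * (Nat.choose m r : ℚ) =
      (-1 : ℚ) ^ k * ∑ r ∈ Finset.range (m + 1), (-1 : ℚ) ^ r * (Nat.choose r k : ℚ) * (Nat.choose m r : ℚ) := by
    rw [Finset.mul_sum]
    apply Finset.sum_congr rfl
    intro r _
    rw [pow_add]; ring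
  rw [h3, ← h2]
  split_ifs with h
  · subst h
    rw [← pow_add, ← two_mul, pow_mul]
    simp
  · simp

/-- Variant with a longer range and the coefficients of the statement. -/
theorem binom_inversion' (n m k : ℕ) (hm : m ≤ n) :
    ∑ r ∈ Finset.range (n + 1),
      (((-1 : ℚ) ^ (r + k)) / (Nat.factorial r : ℚ) * (Nat.choose r k : ℚ)) * (m.descFactorial r : ℚ) =
      if m = k then 1 else 0 := by
  rw [← binom_inversion m k]
  have hsub : Finset.range (m + 1) ⊆ Finset.range (n + 1) := by
    intro x hx
    rw [Finset.mem_range] at hx ⊢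
    omega
  rw [← Finset.sum_subset hsub]
  · apply Finset.sum_congr rfl
    intro r _
    rw [Nat.descFactorial_eq_factorial_mul_choose]
    have : (Nat.factorial r : ℚ) ≠ 0 := by exact_mod_cast (Nat.factorial_pos r).ne'
    push_cast
    field_simp
  · intro r _ hr
    rw [Finset.mem_range, not_lt] at hr
    have : m.descFactorial r = 0 := by
      rw [Nat.descFactorial_eq_zero_iff_lt]; omega
    rw [this]; simp

theorem inertiaR_apply_eigen (r m : ℕ) (w : K) (hw : w ∈ Module.End.eigenspace inertia (m : ℚ)) :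
    inertiaR r w = (m.descFactorial r : ℚ) • w := by
  have := eigenspace_inertia_le m r hw
  rw [Module.End.mem_eigenspace_iff, ← Nat.descFactorial_eq_factorial_mul_choose] at this
  exact this

theorem eigenprojection (v : K) :
    (∀ k : ℕ, (∑ᶠ r : ℕ, (((-1 : ℚ) ^ (r + k)) / (Nat.factorial r : ℚ) * (Nat.choose r k : ℚ)) •
        inertiaR r v) ∈ Module.End.eigenspace inertia (k : ℚ)) ∧
    (∑ᶠ k : ℕ, ∑ᶠ r : ℕ, (((-1 : ℚ) ^ (r + k)) / (Nat.factorial r : ℚ) * (Nat.choose r k : ℚ)) •
        inertiaR r v) = v := by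
  classical
  obtain ⟨n, hn⟩ := exists_mem_Kle v
  have h1 : v ∈ LinearMap.ker (aeval inertia (annPoly n)) :=
    LinearMap.mem_ker.mpr (aeval_annPoly_eq_zero n v hn)
  rw [ker_annPoly, Submodule.mem_iSup_finset_iff_exists_sum] at h1
  obtain ⟨w, hw⟩ := h1
  -- inertiaR r v in terms of the decomposition
  have hT : ∀ r, inertiaR r v = ∑ m ∈ Finset.Icc 1 n, (m.descFactorial r : ℚ) • (w m : K) := by
    intro r
    rw [← hw, map_sum]
    apply Finset.sum_congr rfl
    intro m _
    exact inertiaR_apply_eigen r m _ (w m).2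
  -- the projections
  have hP : ∀ k : ℕ, (∑ᶠ r : ℕ, (((-1 : ℚ) ^ (r + k)) / (Nat.factorial r : ℚ) * (Nat.choose r k : ℚ)) •
        inertiaR r v) = if k ∈ Finset.Icc 1 n then (w k : K) else 0 := by
    intro k
    have hsupp : (Function.support fun r : ℕ =>
        (((-1 : ℚ) ^ (r + k)) / (Nat.factorial r : ℚ) * (Nat.choose r k : ℚ)) • inertiaR r v) ⊆
        ↑(Finset.range (n + 1)) := by
      intro r hr
      rw [Function.mem_support] at hr
      rw [Finset.coe_range, Set.mem_Iio]
      by_contra hlt
      apply hr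
      rw [hT r]
      have : ∀ m ∈ Finset.Icc 1 n, (m.descFactorial r : ℚ) • (w m : K) = 0 := by
        intro m hm
        have : m.descFactorial r = 0 := by
          rw [Nat.descFactorial_eq_zero_iff_lt]
          have := (Finset.mem_Icc.mp hm).2
          omega
        rw [this]; simp
      rw [Finset.sum_eq_zero this, smul_zero]
    rw [finsum_eq_sum_of_support_subset _ hsupp]
    simp_rw [hT, Finset.smul_sum, smul_smul]
    rw [Finset.sum_comm]
    simp_rw [← Finset.sum_smul]
    have : ∀ m ∈ Finset.Icc 1 n,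
        (∑ r ∈ Finset.range (n + 1),
          (((-1 : ℚ) ^ (r + k)) / (Nat.factorial r : ℚ) * (Nat.choose r k : ℚ)) * (m.descFactorial r : ℚ)) •
          (w m : K) = if m = k then (w m : K) else 0 := by
      intro m hm
      rw [binom_inversion' n m k (Finset.mem_Icc.mp hm).2]
      split_ifs <;> simp
    rw [Finset.sum_congr rfl this, Finset.sum_ite_eq' (Finset.Icc 1 n) k (fun m => (w m : K))]
  constructor
  · intro k
    rw [hP k]
    split_ifs
    · exact (w k).2
    · exact Submodule.zero_mem _
  · simp_rw [hP]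
    have hsupp : (Function.support fun k : ℕ => if k ∈ Finset.Icc 1 n then (w k : K) else 0) ⊆
        ↑(Finset.Icc 1 n) := by
      intro k hk
      rw [Function.mem_support] at hk
      by_contra hnot
      apply hk
      rw [if_neg (by simpa using hnot)]
    rw [finsum_eq_sum_of_support_subset _ hsupp, ← hw]
    apply Finset.sum_congr rfl
    intro k hk
    rw [if_pos hk]

end Groth.Agent.Lib.Helper90
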