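import Mathlib

/-!
# Formal inverse function theorem for multivariate power series (helper90)

* `bijective_of_forall_sub_mem_pow_succ`: perturbation lemma on an adically complete ring.
* `bijective_of_generators`: ring endomorphism = id mod `I`, and = id mod `I^2` on generators.
* `mem_span_range_X_of_constantCoeff_eq_zero`: `(X)` = power series without constant term.
* `substAlgHom_bijective`, `substAlgEquiv`: substitution `X i ↦ a i` with `a i ≡ X i mod (X)^2`
  is an algebra automorphism of `MvPowerSeries σ R` (`σ` finite).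
* `exists_pow_eq_of_sub_one_mem`: `n`-th roots of `1 + I` in a Henselian ring, `n` invertible.
-/

namespace Groth.Agent.Lib.Helper90.PSInv

open Ideal

section Perturb

variable {A : Type*} [CommRing A] (I : Ideal A)

/-- Perturbation lemma: on an `I`-adically complete ring, an additive map `ψ` such that
`ψ - id` raises the `I`-adic filtration by one is bijective. -/
theorem bijective_of_forall_sub_mem_pow_succ [IsAdicComplete I A] (ψ : A →+ A)
    (h : ∀ m : ℕ, ∀ x ∈ I ^ m, ψ x - x ∈ I ^ (m + 1)) : Function.Bijective ψ := by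
  -- N = id - ψ
  set N : A →+ A := AddMonoidHom.id A - ψ with hN
  have hNx : ∀ x, N x = x - ψ x := fun x => by simp [hN]
  have hNmem : ∀ m : ℕ, ∀ x ∈ I ^ m, N x ∈ I ^ (m + 1) := by
    intro m x hx
    rw [hNx, ← neg_sub]
    exact (I ^ (m + 1)).neg_mem (h m x hx)
  have hψmem : ∀ m : ℕ, ∀ x ∈ I ^ m, ψ x ∈ I ^ m := by
    intro m x hx
    have h1 := Ideal.pow_le_pow_right (Nat.le_succ m) (h m x hx)
    have : ψ x = (ψ x - x) + x := by ring
    rw [this]
    exact (I ^ m).add_mem h1 hx
  have hhaus : ∀ x : A, (∀ n : ℕ, x ∈ I ^ n) → x = 0 := by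
    intro x hx
    refine IsHausdorff.haus' (I := I) x fun n => ?_
    rw [SModEq.zero]
    simpa using hx n
  constructor
  · -- injective
    rw [injective_iff_map_eq_zero]
    intro x hx
    apply hhaus
    intro n
    induction n with
    | zero => simp
    | succ n ih =>
      have := hNmem n x ih
      rwa [hNx, hx, sub_zero] at this
  · -- surjective
    intro y
    have hNk : ∀ k : ℕ, N^[k] y ∈ I ^ k := by
      intro k
      induction k with
      | zero => simp
      | succ k ih =>
        rw [Function.iterate_succ_apply']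
        exact hNmem k _ ih
    let f : ℕ → A := fun m => ∑ k ∈ Finset.range m, N^[k] y
    have hf_succ : ∀ m, f (m + 1) = f m + N^[m] y := fun m => Finset.sum_range_succ _ _
    have hf_le : ∀ m n, m ≤ n → f n - f m ∈ I ^ m := by
      intro m n hmn
      induction n, hmn using Nat.le_induction with
      | base => simp
      | succ n hmn ih =>
        rw [hf_succ]
        have : f n + N^[n] y - f m = (f n - f m) + N^[n] y := by ring
        rw [this]
        exact (I ^ m).add_mem ih (Ideal.pow_le_pow_right hmn (hNk n))
    obtain ⟨L, hL⟩ := IsPrecomplete.prec' (I := I) f (by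
      intro m n hmn
      rw [SModEq.sub_mem]
      have := hf_le m n hmn
      rw [← neg_sub]
      simpa using (I ^ m).neg_mem this)
    have hL' : ∀ n, L - f n ∈ I ^ n := by
      intro n
      have := hL n
      rw [SModEq.sub_mem] at this
      rw [← neg_sub]
      refine (I ^ n).neg_mem ?_
      simpa using this
    have hψf : ∀ n, ψ (f n) = y - N^[n] y := by
      intro n
      induction n with
      | zero => simp [f]
      | succ n ih =>
        rw [hf_succ, map_add, ih, Function.iterate_succ_apply', hNx (N^[n] y)]
        ring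
    refine ⟨L, ?_⟩
    rw [← sub_eq_zero]
    apply hhaus
    intro n
    have e : ψ L - y = ψ (L - f n) - N^[n] y := by
      rw [map_sub, hψf]; ring
    rw [e]
    exact (I ^ n).sub_mem (hψmem n _ (hL' n)) (hNk n)

/-- If a ring endomorphism `ψ` is congruent to the identity mod `I`, and congruent to the identity
mod `I ^ 2` on a generating set of `I`, then `ψ - id` raises the `I`-adic filtration by one. -/
theorem sub_mem_pow_succ_of_generators (ψ : A →+* A) (h0 : ∀ x, ψ x - x ∈ I)
    (S : Set A) (hS : I = Ideal.span S) (h1 : ∀ g ∈ S, ψ g - g ∈ I ^ 2) :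
    ∀ m : ℕ, ∀ x ∈ I ^ m, ψ x - x ∈ I ^ (m + 1) := by
  have hψI : ∀ x ∈ I, ψ x ∈ I := by
    intro x hx
    have : ψ x = (ψ x - x) + x := by ring
    rw [this]; exact I.add_mem (h0 x) hx
  have hA : ∀ x ∈ I, ψ x - x ∈ I ^ 2 := by
    intro x hx
    rw [hS] at hx
    induction hx using Submodule.span_induction with
    | mem g hg => exact h1 g hg
    | zero => simp
    | add x y _ _ hx hy =>
      have : ψ (x + y) - (x + y) = (ψ x - x) + (ψ y - y) := by rw [map_add]; ring
      rw [this]; exact (I ^ 2).add_mem hx hy
    | smul a x hx' hx =>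
      have hxI : x ∈ I := by rw [hS]; exact hx'
      have : ψ (a • x) - a • x = (ψ a - a) * ψ x + a * (ψ x - x) := by
        rw [smul_eq_mul, map_mul]; ring
      rw [this]
      refine (I ^ 2).add_mem ?_ ((I ^ 2).mul_mem_left a hx)
      rw [sq]; exact Ideal.mul_mem_mul (h0 a) (hψI x hxI)
  have hψpow : ∀ m : ℕ, ∀ x ∈ I ^ m, ψ x ∈ I ^ m := by
    intro m x hx
    have h2 : ψ x ∈ (I ^ m).map ψ := Ideal.mem_map_of_mem ψ hx
    rw [Ideal.map_pow] at h2
    have h3 : I.map ψ ≤ I := by
      rw [Ideal.map_le_iff_le_comap]; exact fun x hx => hψI x hx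
    exact Ideal.pow_right_mono h3 m h2
  intro m
  induction m with
  | zero => intro x _; simpa using h0 x
  | succ m ih =>
    intro x hx
    rw [pow_succ] at hx
    induction hx using Submodule.mul_induction_on' with
    | mem_mul_mem a ha b hb =>
      have : ψ (a * b) - a * b = (ψ a - a) * ψ b + a * (ψ b - b) := by rw [map_mul]; ring
      rw [this]
      have e : I ^ (m + 1 + 1) = I ^ (m + 1) * I := pow_succ _ _
      have e' : I ^ (m + 1 + 1) = I ^ m * I ^ 2 := by rw [← pow_add]
      refine (I ^ (m + 1 + 1)).add_mem ?_ ?_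
      · rw [e]; exact Ideal.mul_mem_mul (ih a ha) (hψI b hb)
      · rw [e']; exact Ideal.mul_mem_mul ha (hA b hb)
    | add x _ y _ hx hy =>
      have : ψ (x + y) - (x + y) = (ψ x - x) + (ψ y - y) := by rw [map_add]; ring
      rw [this]; exact (I ^ (m + 1 + 1)).add_mem hx hy

/-- A ring endomorphism of an `I`-adically complete ring which is the identity mod `I` and is the
identity mod `I ^ 2` on generators of `I` is bijective. -/
theorem bijective_of_generators [IsAdicComplete I A] (ψ : A →+* A) (h0 : ∀ x, ψ x - x ∈ I)
    (S : Set A) (hS : I = Ideal.span S) (h1 : ∀ g ∈ S, ψ g - g ∈ I ^ 2) :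
    Function.Bijective ψ :=
  bijective_of_forall_sub_mem_pow_succ I ψ.toAddMonoidHom
    (sub_mem_pow_succ_of_generators I ψ h0 S hS h1)

end Perturb

open Polynomial in
/-- `n`-th roots of elements congruent to `1` in a Henselian (e.g. adically complete) ring,
when `n` is invertible. -/
theorem exists_pow_eq_of_sub_one_mem {A : Type*} [CommRing A] (I : Ideal A) [HenselianRing A I]
    (n : ℕ) (hn0 : n ≠ 0) (hn : IsUnit (n : A)) (u : A) (hu : u - 1 ∈ I) :
    ∃ p : A, p ^ n = u ∧ p - 1 ∈ I := by
  obtain ⟨p, hp, hp1⟩ := HenselianRing.is_henselian (I := I) (X ^ n - C u : A[X])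
    (monic_X_pow_sub_C u hn0) 1
    (by
      simp only [eval_sub, eval_pow, eval_X, one_pow, eval_C]
      rw [← neg_sub]; exact I.neg_mem hu)
    (by
      simp only [derivative_sub, derivative_X_pow, derivative_C, sub_zero, eval_mul, eval_C,
        eval_pow, eval_X, one_pow, mul_one, eval_natCast]
      exact hn.map _)
  refine ⟨p, ?_, hp1⟩
  have : p ^ n - u = 0 := by simpa [IsRoot] using hp
  exact sub_eq_zero.mp this


open MvPowerSeries

section MvPS

variable {σ R : Type*} [CommRing R]

theorem mem_span_range_X_of_constantCoeff_eq_zero [Finite σ] (f : MvPowerSeries σ R)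
    (hf : constantCoeff f = 0) : f ∈ Ideal.span (Set.range (X : σ → MvPowerSeries σ R)) := by
  classical
  obtain ⟨n, ⟨e⟩⟩ := Finite.exists_equiv_fin σ
  let _ : LinearOrder σ := LinearOrder.lift' e e.injective
  let _ := Fintype.ofFinite σ
  let g : σ → MvPowerSeries σ R := fun i d =>
    if d.support.min = (i : WithTop σ) then coeff d f else 0
  have hg : ∀ i, g i ∈ Ideal.span (Set.range (X : σ → MvPowerSeries σ R)) := by
    intro i
    have : X i ∣ g i := by
      rw [X_dvd_iff]
      intro m hm
      change (if m.support.min = (i : WithTop σ) then coeff m f else 0) = 0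
      rw [if_neg]
      intro h
      have := Finset.mem_of_min h
      simp [hm] at this
    obtain ⟨c, hc⟩ := this
    rw [hc]
    exact Ideal.mul_mem_right _ _ (Ideal.subset_span ⟨i, rfl⟩)
  have hsum : f = ∑ i, g i := by
    ext d
    rw [map_sum]
    change _ = ∑ i : σ, (if d.support.min = (i : WithTop σ) then coeff d f else 0)
    by_cases hd : d = 0
    · subst hd
      rw [Finset.sum_eq_zero]
      · simpa using hf
      · intro i _
        rw [if_neg]
        simp
    · have hne : d.support.Nonempty := by
        rw [Finsupp.support_nonempty_iff]; exact hd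
      obtain ⟨j, hj⟩ := Finset.min_of_nonempty hne
      rw [Finset.sum_eq_single j]
      · rw [if_pos hj]
      · intro i _ hij
        rw [if_neg]
        rw [hj]
        intro h
        exact hij (WithTop.coe_injective h).symm
      · intro h; exact absurd (Finset.mem_univ j) h
  rw [hsum]
  exact Ideal.sum_mem _ fun i _ => hg i

theorem constantCoeff_eq_zero_of_mem_span_range_X (f : MvPowerSeries σ R)
    (hf : f ∈ Ideal.span (Set.range (X : σ → MvPowerSeries σ R))) : constantCoeff f = 0 := by
  have : Ideal.span (Set.range (X : σ → MvPowerSeries σ R)) ≤ RingHom.ker (constantCoeff (σ := σ) (R := R)) := by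
    rw [Ideal.span_le]
    rintro _ ⟨i, rfl⟩
    simp [RingHom.mem_ker]
  exact this hf


theorem constantCoeff_substAlgHom_sub_self {a : σ → MvPowerSeries σ R} (ha : HasSubst a)
    (ha' : ∀ i, constantCoeff (a i) = 0) (f : MvPowerSeries σ R) :
    constantCoeff (substAlgHom (R := R) ha f - f) = 0 := by
  set c := constantCoeff f with hc
  have hf0 : constantCoeff (f - C c) = 0 := by simp [hc]
  have e : f = C c + (f - C c) := by ring
  have h1 : substAlgHom (R := R) ha (C c) = C c := by
    have : (C c : MvPowerSeries σ R) = algebraMap R (MvPowerSeries σ R) c := rfl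
    rw [this, AlgHom.commutes]
  have h2 : constantCoeff (substAlgHom (R := R) ha (f - C c)) = 0 := by
    rw [substAlgHom_apply]
    exact constantCoeff_subst_eq_zero ha ha' hf0
  calc constantCoeff (substAlgHom (R := R) ha f - f)
      = constantCoeff (substAlgHom (R := R) ha (C c + (f - C c)) - f) := by rw [← e]
    _ = constantCoeff (C c + substAlgHom (R := R) ha (f - C c) - f) := by rw [map_add, h1]
    _ = 0 := by
        rw [map_sub, map_add, h2]
        simp [hc]

/-- Formal inverse function theorem (identity Jacobian): substitution `X i ↦ a i` with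
`a i ≡ X i` modulo `(X)^2` is bijective. -/
theorem substAlgHom_bijective [Finite σ] {a : σ → MvPowerSeries σ R} (ha : HasSubst a)
    (h : ∀ i, a i - X i ∈ (Ideal.span (Set.range (X : σ → MvPowerSeries σ R))) ^ 2) :
    Function.Bijective (substAlgHom (R := R) ha) := by
  set I : Ideal (MvPowerSeries σ R) := Ideal.span (Set.range (X : σ → MvPowerSeries σ R)) with hI
  have ha' : ∀ i, constantCoeff (a i) = 0 := by
    intro i
    have h1 : a i - X i ∈ I := Ideal.pow_le_self (by norm_num) (h i)
    have h2 := constantCoeff_eq_zero_of_mem_span_range_X _ h1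
    simpa using h2
  have := bijective_of_generators I (substAlgHom (R := R) ha).toRingHom
    (fun f => mem_span_range_X_of_constantCoeff_eq_zero _
      (constantCoeff_substAlgHom_sub_self ha ha' f))
    (Set.range X) rfl (by
      rintro _ ⟨i, rfl⟩
      change substAlgHom (R := R) ha (X i) - X i ∈ I ^ 2
      rw [substAlgHom_X]
      exact h i)
  exact this

/-- The algebra automorphism `X i ↦ a i` when `a i ≡ X i` modulo `(X)^2`. -/
noncomputable def substAlgEquiv [Finite σ] {a : σ → MvPowerSeries σ R} (ha : HasSubst a)
    (h : ∀ i, a i - X i ∈ (Ideal.span (Set.range (X : σ → MvPowerSeries σ R))) ^ 2) :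
    MvPowerSeries σ R ≃ₐ[R] MvPowerSeries σ R :=
  AlgEquiv.ofBijective (substAlgHom (R := R) ha) (substAlgHom_bijective ha h)

@[simp] theorem substAlgEquiv_apply [Finite σ] {a : σ → MvPowerSeries σ R} (ha : HasSubst a)
    (h : ∀ i, a i - X i ∈ (Ideal.span (Set.range (X : σ → MvPowerSeries σ R))) ^ 2)
    (f : MvPowerSeries σ R) : substAlgEquiv ha h f = substAlgHom (R := R) ha f := rfl

theorem substAlgEquiv_X [Finite σ] {a : σ → MvPowerSeries σ R} (ha : HasSubst a)
    (h : ∀ i, a i - X i ∈ (Ideal.span (Set.range (X : σ → MvPowerSeries σ R))) ^ 2)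
    (i : σ) : substAlgEquiv ha h (X i) = a i := by
  rw [substAlgEquiv_apply, substAlgHom_X]

end MvPS

end Groth.Agent.Lib.Helper90.PSInv
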