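import Mathlib
import Groth.Agent.Lib.Helper18.RegQuasiReg

/-! helper90: the Rees algebra of a weakly regular sequence is presented by the Koszul relations
(`a_i X_j - a_j X_i`); `PP a` = every homogeneous form vanishing at `a` lies in the ideal `LL a` of
Koszul relations. Built on helper18's `RegQuasiReg`. -/

set_option autoImplicit false
universe u

namespace Groth.Agent.Lib.Helper90.ReesReg

open Groth.Agent.Lib.Helper18
open MvPolynomial

section rees
variable {A : Type u} [CommRing A]

/-- the ideal of Koszul relations -/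
noncomputable def LL {n : ℕ} (a : Fin n → A) : Ideal (MvPolynomial (Fin n) A) :=
  Ideal.span {q | ∃ i j : Fin n, q = C (a i) * X j - C (a j) * X i}

/-- homogeneous relations are Koszul -/
def PP {n : ℕ} (a : Fin n → A) : Prop :=
  ∀ (ν : ℕ) (F : MvPolynomial (Fin n) A), F.IsHomogeneous ν → eval a F = 0 → F ∈ LL a

theorem rename_mem_LL {m n : ℕ} (f : Fin m → Fin n) (a : Fin n → A)
    {q : MvPolynomial (Fin m) A} (hq : q ∈ LL (a ∘ f)) : rename f q ∈ LL a := by
  have : Ideal.map (rename f : MvPolynomial (Fin m) A →ₐ[A] MvPolynomial (Fin n) A) (LL (a ∘ f))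
      ≤ LL a := by
    rw [LL, Ideal.map_span, Ideal.span_le]
    rintro _ ⟨_, ⟨i, j, rfl⟩, rfl⟩
    apply Ideal.subset_span
    refine ⟨f i, f j, ?_⟩
    simp
  exact this (Ideal.mem_map_of_mem _ hq)

theorem PP_perm {n : ℕ} (a : Fin n → A) (σ : Equiv.Perm (Fin n)) (h : PP a) : PP (a ∘ σ) := by
  intro ν F hF hFe
  have h1 : eval a (rename σ F) = 0 := by rw [eval_rename]; exact hFe
  have h2 := h ν (rename σ F) hF.rename_isHomogeneous h1
  have h3 : a = (a ∘ σ) ∘ σ.symm := by
    funext i; simp
  rw [h3] at h2
  have h4 := rename_mem_LL σ.symm (a ∘ σ) h2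
  rw [rename_rename] at h4
  simpa using h4

theorem PP_zero (a : Fin 0 → A) : PP a := by
  intro ν F _ hFe
  rw [eq_C_of_isEmpty F, eval_C] at hFe
  rw [eq_C_of_isEmpty F, hFe, C_0]
  exact Ideal.zero_mem _

/-- decomposition of a homogeneous polynomial with respect to the first variable -/
theorem exists_decomp {n ν : ℕ} (F : MvPolynomial (Fin (n + 1)) A) (hF : F.IsHomogeneous (ν + 1)) :
    ∃ (H : MvPolynomial (Fin (n + 1)) A) (G : MvPolynomial (Fin n) A),
      H.IsHomogeneous ν ∧ G.IsHomogeneous (ν + 1) ∧ F = X 0 * H + rename Fin.succ G := by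
  set p := finSuccEquiv A n F with hp
  set G := p.coeff 0 with hGdef
  set H := (finSuccEquiv A n).symm p.divX with hHdef
  have hpH : finSuccEquiv A n H = p.divX := by simp [hHdef]
  have hG : G.IsHomogeneous (ν + 1) := hF.finSuccEquiv_coeff_isHomogeneous 0 (ν + 1) (zero_add _)
  have hcoeffH : ∀ (m : Fin n →₀ ℕ) (k : ℕ), coeff (m.cons k) H = coeff (m.cons (k + 1)) F := by
    intro m k
    rw [← finSuccEquiv_coeff_coeff, hpH, Polynomial.coeff_divX, hp,
      finSuccEquiv_coeff_coeff]
  have hH : H.IsHomogeneous ν := by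
    intro e he
    rw [← Finsupp.cons_tail e, hcoeffH] at he
    have := hF he
    rw [weight_one_eq_degree] at this ⊢
    rw [degree_cons] at this
    rw [← Finsupp.cons_tail e, degree_cons]
    omega
  refine ⟨H, G, hH, hG, ?_⟩
  apply (finSuccEquiv A n).injective
  rw [map_add, map_mul, finSuccEquiv_X_zero, hpH, ← hp]
  have : finSuccEquiv A n (rename Fin.succ G) = Polynomial.C G := by
    induction G using MvPolynomial.induction_on with
    | C c =>
      rw [rename_C]
      have : (C c : MvPolynomial (Fin (n + 1)) A) = algebraMap A _ c := rfl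
      rw [this, AlgEquiv.commutes]
      rfl
    | add p q hp hq => rw [map_add, map_add, hp, hq, map_add]
    | mul_X p i hp => rw [map_mul, map_mul, hp, rename_X, finSuccEquiv_X_succ, map_mul]
  rw [this, mul_comm]
  exact (Polynomial.divX_mul_X_add p).symm

end rees

section cons
variable {A : Type u} [CommRing A] {n : ℕ}

theorem exists_sum_of_mem_span_mul (g : Fin n → A) (N : Ideal A) {y : A}
    (hy : y ∈ Ideal.span (Set.range g) * N) :
    ∃ t : Fin n → A, (∀ i, t i ∈ N) ∧ y = ∑ i, g i * t i := by
  induction hy using Submodule.mul_induction_on' with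
  | mem_mul_mem m hm k hk =>
    obtain ⟨c, rfl⟩ := Ideal.mem_span_range_iff_exists_fun.mp hm
    refine ⟨fun i => c i * k, fun i => N.mul_mem_left _ hk, ?_⟩
    rw [Finset.sum_mul]
    refine Finset.sum_congr rfl fun i _ => ?_
    ring
  | add x _ y _ hx hy =>
    obtain ⟨t, ht, rfl⟩ := hx
    obtain ⟨t', ht', rfl⟩ := hy
    refine ⟨fun i => t i + t' i, fun i => N.add_mem (ht i) (ht' i), ?_⟩
    rw [← Finset.sum_add_distrib]
    refine Finset.sum_congr rfl fun i _ => ?_
    ring

theorem exists_forms_of_mem_pow_succ (g : Fin n → A) (ν : ℕ) {y : A}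
    (hy : y ∈ Ideal.span (Set.range g) ^ (ν + 1)) :
    ∃ h : Fin n → MvPolynomial (Fin n) A, (∀ i, (h i).IsHomogeneous ν) ∧
      y = ∑ i, g i * eval g (h i) := by
  rw [pow_succ'] at hy
  obtain ⟨t, ht, rfl⟩ := exists_sum_of_mem_span_mul g _ hy
  choose h hh hhe using fun i => exists_homogeneous_eval_eq_of_mem_pow g ν (ht i)
  exact ⟨h, hh, by simp_rw [hhe]⟩

theorem PP_cons (g : Fin n → A) (hP : PP g) (hg : CAlgX.IsQuasiRegular g) (x : A)
    (hx : ∀ y, x * y ∈ Ideal.span (Set.range g) → y ∈ Ideal.span (Set.range g)) :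
    PP (Fin.cons x g : Fin (n + 1) → A) := by
  set a : Fin (n + 1) → A := Fin.cons x g with ha
  have ha0 : a 0 = x := by simp [ha]
  have has : ∀ i : Fin n, a i.succ = g i := by intro i; simp [ha]
  have hcomp : a ∘ Fin.succ = g := funext has
  intro ν
  induction ν with
  | zero =>
    intro F hF hFe
    have htd : F = C (coeff 0 F) := by
      have := hF.totalDegree_le
      exact totalDegree_eq_zero_iff_eq_C.mp (Nat.le_zero.mp this)
    rw [htd, eval_C] at hFe
    rw [htd, hFe, C_0]
    exact Ideal.zero_mem _
  | succ ν ih =>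
    intro F hF hFe
    obtain ⟨H, G, hH, hG, rfl⟩ := exists_decomp F hF
    have hev : x * eval a H + eval g G = 0 := by
      rw [map_add, map_mul, eval_X, ha0, eval_rename, hcomp] at hFe
      exact hFe
    have h1 : x * eval a H ∈ Ideal.span (Set.range g) ^ (ν + 1) := by
      have : x * eval a H = - eval g G := by linear_combination hev
      rw [this]
      exact (Ideal.neg_mem_iff _).mpr (eval_mem_pow g hG)
    have h2 : eval a H ∈ Ideal.span (Set.range g) ^ (ν + 1) :=
      mem_pow_of_mul_mem_pow g hg x hx _ _ h1
    obtain ⟨h, hh, hhe⟩ := exists_forms_of_mem_pow_succ g ν h2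
    -- H' and G'
    set H' : MvPolynomial (Fin (n + 1)) A := H - ∑ i, C (g i) * rename Fin.succ (h i) with hH'
    set G' : MvPolynomial (Fin n) A := G + C x * ∑ i, X i * h i with hG'
    have hH'h : H'.IsHomogeneous ν := by
      refine hH.sub (IsHomogeneous.sum _ _ _ fun i _ => ?_)
      have h5 : (rename Fin.succ (h i) : MvPolynomial (Fin (n + 1)) A).IsHomogeneous ν :=
        (hh i).rename_isHomogeneous
      have := (isHomogeneous_C (Fin (n + 1)) (g i)).mul h5
      rwa [zero_add] at this
    have hG'h : G'.IsHomogeneous (ν + 1) := by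
      refine hG.add ?_
      have h3 : (∑ i, X i * h i : MvPolynomial (Fin n) A).IsHomogeneous (ν + 1) := by
        refine IsHomogeneous.sum _ _ _ fun i _ => ?_
        have := (isHomogeneous_X A i).mul (hh i)
        exact (Nat.add_comm 1 ν) ▸ this
      have := (isHomogeneous_C (Fin n) x).mul h3
      rwa [zero_add] at this
    have hH'e : eval a H' = 0 := by
      rw [hH', map_sub, map_sum, hhe]
      have : ∀ i, eval a (C (g i) * rename Fin.succ (h i)) = g i * eval g (h i) := by
        intro i
        rw [map_mul, eval_C, eval_rename, hcomp]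
      simp_rw [this]
      exact sub_self _
    have hG'e : eval g G' = 0 := by
      rw [hG', map_add, map_mul, eval_C, map_sum]
      have : ∀ i, eval g (X i * h i) = g i * eval g (h i) := by
        intro i
        rw [map_mul, eval_X]
      simp_rw [this]
      rw [← hhe]
      linear_combination hev
    have m1 : H' ∈ LL a := ih H' hH'h hH'e
    have m2 : rename Fin.succ G' ∈ LL a := by
      apply rename_mem_LL Fin.succ a
      rw [hcomp]
      exact hP (ν + 1) G' hG'h hG'e
    have key : X 0 * H + rename Fin.succ G = X 0 * H' + rename Fin.succ G' +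
        ∑ i, (C (a i.succ) * X 0 - C (a 0) * X i.succ) * rename Fin.succ (h i) := by
      rw [hH', hG']
      simp only [map_add, map_mul, map_sum, rename_C, rename_X, has, ha0]
      rw [mul_sub, Finset.mul_sum, Finset.mul_sum]
      simp only [sub_mul, Finset.sum_sub_distrib]
      have e1 : ∀ i, X 0 * (C (g i) * rename Fin.succ (h i))
          = C (g i) * X (0 : Fin (n + 1)) * rename Fin.succ (h i) := by intro i; ring
      have e2 : ∀ i, C x * (X (Fin.succ i) * rename Fin.succ (h i))
          = C x * X (Fin.succ i) * rename Fin.succ (h i) := by intro i; ring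
      simp_rw [e1, e2]
      ring
    rw [key]
    refine (LL a).add_mem ((LL a).add_mem ((LL a).mul_mem_left _ m1) m2) ?_
    refine Ideal.sum_mem _ fun i _ => ?_
    refine (LL a).mul_mem_right _ ?_
    exact Ideal.subset_span ⟨i.succ, 0, rfl⟩

end cons

section final
variable {A : Type u} [CommRing A]

theorem PP_of_isWeaklyRegular : ∀ (c : ℕ) (f : Fin c → A),
    RingTheory.Sequence.IsWeaklyRegular A (List.ofFn f) → PP f := by
  intro c
  induction c with
  | zero => intro f _; exact PP_zero f
  | succ c ih =>
    intro f hf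
    rw [List.ofFn_succ', List.concat_eq_append,
      RingTheory.Sequence.isWeaklyRegular_append_iff,
      RingTheory.Sequence.isWeaklyRegular_singleton_iff, ofList_ofFn] at hf
    obtain ⟨hf1, hf2⟩ := hf
    have hg := ih _ hf1
    have hq := isQuasiRegular_of_isWeaklyRegular c _ hf1
    have hx := mul_mem_of_isSMulRegular_quotient _ _ hf2
    have hcons := PP_cons (fun i => f i.castSucc) hg hq (f (Fin.last c)) hx
    have hf' : f = (Fin.cons (f (Fin.last c)) (fun i => f i.castSucc) : Fin (c + 1) → A)
        ∘ finRotate (c + 1) := by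
      have h1 := Fin.snoc_eq_cons_rotate (fun i => f i.castSucc) (f (Fin.last c))
      have h2 : (Fin.snoc (fun i => f i.castSucc) (f (Fin.last c)) : Fin (c + 1) → A) = f := by
        funext i
        refine Fin.lastCases ?_ (fun j => ?_) i
        · simp
        · simp
      exact h2.symm.trans h1
    rw [hf']
    exact PP_perm _ _ hcons

/-- coefficients of the image in the Rees algebra -/
theorem coeff_aeval_rees {n : ℕ} (a : Fin n → A) (F : MvPolynomial (Fin n) A) (d : ℕ) :
    Polynomial.coeff (aeval (R := A)
      (fun i : Fin n => Polynomial.C (a i) * (Polynomial.X : Polynomial A)) F) d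
      = eval a (homogeneousComponent d F) := by
  classical
  induction F using MvPolynomial.induction_on' with
  | monomial α c =>
    rw [aeval_monomial]
    have h1 : (α.prod fun i k => (Polynomial.C (a i) * (Polynomial.X : Polynomial A)) ^ k)
        = Polynomial.C (α.prod fun i k => a i ^ k) * Polynomial.X ^ α.degree := by
      rw [Finsupp.degree_apply]
      simp only [mul_pow, Finsupp.prod]
      rw [Finset.prod_mul_distrib, Finset.prod_pow_eq_pow_sum, map_prod]
      congr 1
      refine Finset.prod_congr rfl fun i _ => ?_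
      rw [map_pow]
    rw [h1]
    have h2 : (algebraMap A (Polynomial A)) c = Polynomial.C c := rfl
    rw [h2, ← mul_assoc, ← map_mul, Polynomial.coeff_C_mul_X_pow]
    rw [homogeneousComponent_of_mem (isHomogeneous_monomial c (rfl : α.degree = α.degree))]
    split_ifs with h
    · rw [eval_monomial]
    · rw [map_zero]
  | add p q hp hq => rw [map_add, Polynomial.coeff_add, hp, hq, map_add, map_add]

end final

section kernel
variable {A : Type u} [CommRing A]

theorem main {n : ℕ} (a : Fin n → A)
    (ha : RingTheory.Sequence.IsWeaklyRegular A (List.ofFn a)) :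
    RingHom.ker (MvPolynomial.aeval (R := A)
      (fun i : Fin n => Polynomial.C (a i) * (Polynomial.X : Polynomial A))) =
      Ideal.span {q : MvPolynomial (Fin n) A | ∃ i j : Fin n,
        q = MvPolynomial.C (a i) * MvPolynomial.X j - MvPolynomial.C (a j) * MvPolynomial.X i} := by
  have hP := PP_of_isWeaklyRegular n a ha
  apply le_antisymm
  · intro F hF
    rw [RingHom.mem_ker] at hF
    have h1 : ∀ d, eval a (homogeneousComponent d F) = 0 := by
      intro d
      rw [← coeff_aeval_rees, hF, Polynomial.coeff_zero]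
    have h2 : ∀ d, homogeneousComponent d F ∈ LL a := fun d =>
      hP d _ (homogeneousComponent_isHomogeneous d F) (h1 d)
    rw [← sum_homogeneousComponent F]
    exact Ideal.sum_mem _ fun d _ => h2 d
  · rw [Ideal.span_le]
    rintro _ ⟨i, j, rfl⟩
    rw [SetLike.mem_coe, RingHom.mem_ker, map_sub, map_mul, map_mul, aeval_C, aeval_C, aeval_X,
      aeval_X]
    have : (algebraMap A (Polynomial A)) = Polynomial.C := rfl
    rw [this]
    ring

end kernel

end Groth.Agent.Lib.Helper90.ReesReg
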